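import Groth.Agent.FMK72.Basic
import Groth.Agent.LimTop61.PullBC
import Groth.Agent.Mum71.TensorSec
import Groth.Agent.GRec72.Tensor
import Groth.Agent.Amp73.PullTensor
import Groth.Agent.ValVan29.PushTwist

/-!
Base change along affine morphisms and the projection formula for quasi-coherent modules.
-/

set_option autoImplicit false
set_option backward.isDefEq.respectTransparency.types false
set_option maxSynthPendingDepth 6

noncomputable section

universe u

open CategoryTheory Limits AlgebraicGeometry TopologicalSpace Opposite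
open Groth.Agent.QC70
open scoped TensorProduct

namespace Groth.Agent.FMK72

variable {X X' P P' : Scheme.{u}}

/-- A morphism bijective on a basis of opens is an isomorphism. -/
theorem isIso_of_basis {M N : X.Modules} (f : M ⟶ N) (h : ∀ (x : X) (W : X.Opens), x ∈ W →
    ∃ U ≤ W, x ∈ U ∧ Function.Bijective (f.app U)) : IsIso f := by
  refine isIso_of_bijective_stalkMapM _ fun x => ?_
  refine ⟨(injective_iff_map_eq_zero (stalkLinear f x)).mpr fun e he => ?_, fun e => ?_⟩
  · obtain ⟨W, hxW, s, rfl⟩ := germM_exist e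
    obtain ⟨W', hW', hxW', h0⟩ := germM_eq_zero ((stalkMapM_germ f hxW s).symm.trans he)
    obtain ⟨U, hUW, hxU, hb⟩ := h x W' hxW'
    have hz : res M (hUW.trans hW') s = 0 := hb.1 (by
      rw [map_zero, app_res, ← res_res hW' hUW, h0, res_zero])
    rw [← germM_res (hUW.trans hW') hxU s, hz, germM_zero]
  · obtain ⟨W, hxW, s, rfl⟩ := germM_exist e
    obtain ⟨U, hUW, hxU, hb⟩ := h x W hxW
    obtain ⟨t, ht⟩ := hb.2 (res N hUW s)
    exact ⟨germM M U x hxU t, (stalkMapM_germ f hxU t).trans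
      ((congrArg _ ht).trans (germM_res hUW hxU s))⟩

section Algebra

/-- Bijectivity of a semilinear map of base changes along a cocartesian square of rings. -/
theorem bijective_of_pushout {A B A' B' : Type u} [CommRing A] [CommRing B] [CommRing A'] [CommRing B']
    [Algebra A B] [Algebra A A'] [Algebra B B'] [Algebra A' B'] [Algebra A B'] [IsScalarTower A B B']
    [IsScalarTower A A' B'] [Algebra.IsPushout A B A' B'] {M : Type u} [AddCommGroup M]
    {iM : Module A M} [Module A' M] (tow : ∀ (a : A) (m : M), algebraMap A A' a • m = a • m)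
    {S T : Type u} [AddCommGroup S] [Module B S] [AddCommGroup T] [Module B' T]
    (E1 : S ≃ₗ[B] B ⊗[A] M) (E2 : T ≃ₗ[B'] B' ⊗[A'] M) (φ : S →+ T)
    (hsmul : ∀ b s, φ (b • s) = algebraMap B B' b • φ s)
    (h : ∀ m, φ (E1.symm (1 ⊗ₜ m)) = E2.symm (1 ⊗ₜ m)) : Function.Bijective φ := by
  have : IsScalarTower A A' M := IsScalarTower.of_algebraMap_smul tow
  let E : B' ⊗[A'] M ≃ₗ[B] B ⊗[A] M := Algebra.IsPushout.cancelBaseChange A B A' B' M
  have key : ∀ z, φ (E1.symm z) = E2.symm (E.symm z) := by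
    intro z
    induction z using TensorProduct.induction_on with
    | zero => simp
    | tmul b m =>
      rw [show b ⊗ₜ[A] m = b • ((1 : B) ⊗ₜ[A] m) by
          rw [TensorProduct.smul_tmul', smul_eq_mul, mul_one],
        map_smul, hsmul, h, map_smul, ← algebraMap_smul B' b (E.symm _), map_smul]
      congr 2
      exact ((LinearEquiv.symm_apply_eq E).2
        (Algebra.IsPushout.cancelBaseChange_tmul A B A' B' M m).symm).symm
    | add a b ha hb => simp only [map_add, ha, hb]
  have : ⇑φ = fun s => E2.symm (E.symm (E1 s)) := funext fun s => by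
    rw [← key, LinearEquiv.symm_apply_apply]
  rw [this]
  exact E2.symm.bijective.comp (E.symm.bijective.comp E1.bijective)

/-- Bijectivity in the algebraic projection formula. -/
theorem bijective_of_cancel {B C : Type u} [CommRing B] [CommRing C] [Algebra B C] {N K L : Type u}
    [AddCommGroup N] {iN : Module B N} [Module C N]
    (tow : ∀ (b : B) (n : N), algebraMap B C b • n = b • n) [AddCommGroup K] [Module B K]
    [AddCommGroup L] [Module C L] {S T : Type u} [AddCommGroup S] [Module B S] [AddCommGroup T]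
    [Module C T] (E1 : N ⊗[B] K ≃ₗ[B] S) (E2 : N ⊗[C] L ≃ₗ[C] T) (E3 : L ≃ₗ[C] C ⊗[B] K)
    (φ : S →+ T) (h : ∀ a k, φ (E1 (a ⊗ₜ k)) = E2 (a ⊗ₜ E3.symm (1 ⊗ₜ k))) :
    Function.Bijective φ := by
  have : IsScalarTower B C N := IsScalarTower.of_algebraMap_smul tow
  let E : N ⊗[C] (C ⊗[B] K) ≃ₗ[C] N ⊗[B] K :=
    TensorProduct.AlgebraTensorModule.cancelBaseChange B C C N K
  let F := TensorProduct.congr (LinearEquiv.refl C N) E3.symm
  have key : ∀ z, φ (E1 z) = E2 (F (E.symm z)) := by
    intro z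
    induction z using TensorProduct.induction_on with
    | zero => simp
    | tmul a k =>
      rw [h, TensorProduct.AlgebraTensorModule.cancelBaseChange_symm_tmul,
        TensorProduct.congr_tmul, LinearEquiv.refl_apply]
    | add a b ha hb => simp only [map_add, ha, hb]
  have : ⇑φ = fun s => E2 (F (E.symm (E1.symm s))) := funext fun s => by
    rw [← key, LinearEquiv.apply_symm_apply]
  rw [this]
  exact (E2.bijective.comp (F.bijective.comp E.symm.bijective)).comp E1.symm.bijective

end Algebra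

section BaseChange

variable {f : X' ⟶ X} {g : P' ⟶ P} {p : P ⟶ X} {q : P' ⟶ X'} (w : g ≫ p = q ≫ f)

/-- The natural transformation `f_* ⟶ p_* g_* q^*` of a commutative square. -/
def bcAdjNat : Coh.push f ⟶ Scheme.Modules.pullback q ⋙ Coh.push g ⋙ Coh.push p where
  app M := (Coh.push f).map ((Scheme.Modules.pullbackPushforwardAdjunction q).unit.app M) ≫
    ((Scheme.Modules.pushforwardComp q f).hom ≫ (Scheme.Modules.pushforwardCongr w.symm).hom ≫
      (Scheme.Modules.pushforwardComp g p).inv).app ((Scheme.Modules.pullback q).obj M)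
  naturality M N φ := by
    have h := (Scheme.Modules.pullbackPushforwardAdjunction q).unit.naturality φ
    have h' := ((Scheme.Modules.pushforwardComp q f).hom ≫
      (Scheme.Modules.pushforwardCongr w.symm).hom ≫
      (Scheme.Modules.pushforwardComp g p).inv).naturality ((Scheme.Modules.pullback q).map φ)
    simp only [Functor.id_map, Functor.id_obj, Functor.comp_obj, Functor.comp_map] at h h' ⊢
    rw [Category.assoc, ← h', ← Functor.map_comp_assoc, h, Functor.map_comp_assoc]

/-- The base change morphism `p^* f_* ⟶ g_* q^*` of a commutative square. -/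
def bcNat : Coh.push f ⋙ Scheme.Modules.pullback p ⟶ Scheme.Modules.pullback q ⋙ Coh.push g where
  app M := ((Scheme.Modules.pullbackPushforwardAdjunction p).homEquiv _ _).symm ((bcAdjNat w).app M)
  naturality M N φ := by
    dsimp only [Functor.comp_map, Functor.comp_obj]
    rw [← Adjunction.homEquiv_naturality_left_symm, ← Adjunction.homEquiv_naturality_right_symm]
    exact congrArg _ ((bcAdjNat w).naturality φ)

include w in
theorem preimage_eq (U : X.Opens) : g ⁻¹ᵁ (p ⁻¹ᵁ U) = q ⁻¹ᵁ (f ⁻¹ᵁ U) :=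
  congrArg (fun h : P' ⟶ X => h ⁻¹ᵁ U) w

theorem bcAdjNat_app (M : X'.Modules) (U : X.Opens) (m : Γ(M, f ⁻¹ᵁ U)) :
    ((bcAdjNat w).app M).app U m =
      res ((Scheme.Modules.pullback q).obj M) (preimage_eq w U).le (Amp73.pullS q M (f ⁻¹ᵁ U) m) := by
  rfl

theorem bcNat_app_pullS (M : X'.Modules) (U : X.Opens) (m : Γ(M, f ⁻¹ᵁ U)) :
    ((bcNat w).app M).app (p ⁻¹ᵁ U)
        (Amp73.pullS p ((Coh.push f).obj M) U (show Γ((Coh.push f).obj M, U) from m)) =
      res ((Scheme.Modules.pullback q).obj M) (preimage_eq w U).le (Amp73.pullS q M (f ⁻¹ᵁ U) m) := by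
  have h : (Scheme.Modules.pullbackPushforwardAdjunction p).homEquiv _ _ ((bcNat w).app M) =
      (bcAdjNat w).app M := Equiv.apply_symm_apply _ _
  rw [Adjunction.homEquiv_unit] at h
  exact (ConcreteCategory.congr_hom (congrArg (fun a => Scheme.Modules.Hom.app a U) h) m).trans
    (bcAdjNat_app w M U m)

variable (H : IsPullback g q p f) [IsAffineHom f]

include H in
theorem isAffineHom_of_isPullback : IsAffineHom g :=
  MorphismProperty.of_isPullback H.flip inferInstance

include H in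
/-- Affine base change on affine opens. -/
theorem bcNat_bijective (M : X'.Modules) [M.IsQuasicoherent] {U : X.Opens} (hU : IsAffineOpen U)
    {V : P.Opens} (hV : IsAffineOpen V) (e : V ≤ p ⁻¹ᵁ U) :
    Function.Bijective (((bcNat w).app M).app V) := by
  haveI := isAffineHom_of_isPullback H
  let G : X.Modules := (Coh.push f).obj M
  haveI hG : G.IsQuasicoherent := QCqs72.isQuasicoherent_pushforward (M := M) f
  have hU' := hU.preimage f
  have hW := hV.preimage g
  have e' : g ⁻¹ᵁ V ≤ q ⁻¹ᵁ (f ⁻¹ᵁ U) := (g.preimage_mono e).trans (preimage_eq w U).le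
  algebraize [(f.app U).hom, (p.appLE U V e).hom, (g.app V).hom, (q.appLE (f ⁻¹ᵁ U) (g ⁻¹ᵁ V) e').hom]
  let _ : Algebra Γ(X, U) Γ(P', g ⁻¹ᵁ V) := ((p.appLE U V e) ≫ g.app V).hom.toAlgebra
  have : IsScalarTower Γ(X, U) Γ(P, V) Γ(P', g ⁻¹ᵁ V) := IsScalarTower.of_algebraMap_eq' rfl
  have hcomm : p.appLE U V e ≫ g.app V = f.app U ≫ q.appLE (f ⁻¹ᵁ U) (g ⁻¹ᵁ V) e' := by
    rw [← g.appLE_eq_app, Scheme.Hom.appLE_comp_appLE, ← f.appLE_eq_app,
      Scheme.Hom.appLE_comp_appLE]
    simp only [w]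
  have : IsScalarTower Γ(X, U) Γ(X', f ⁻¹ᵁ U) Γ(P', g ⁻¹ᵁ V) :=
    IsScalarTower.of_algebraMap_eq' (congrArg CommRingCat.Hom.hom hcomm)
  have hpush : Algebra.IsPushout Γ(X, U) Γ(P, V) Γ(X', f ⁻¹ᵁ U) Γ(P', g ⁻¹ᵁ V) := by
    rw [← CommRingCat.isPushout_iff_isPushout]
    have hUY : g ⁻¹ᵁ V = g ⁻¹ᵁ V ⊓ q ⁻¹ᵁ (f ⁻¹ᵁ U) := (inf_eq_left.2 e').symm
    have h := (isIso_pushoutSection_iff H (le_refl (f ⁻¹ᵁ U)) e hUY).1
      (isIso_pushoutSection_of_isAffineOpen H (le_refl (f ⁻¹ᵁ U)) e hUY hU hU' hV)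
    simp only [Scheme.Hom.appLE_eq_app] at h
    exact h
  obtain ⟨E1, hE1⟩ := LimTop61.exists_baseChange_equiv p G hU hV e
  obtain ⟨E2, hE2⟩ := LimTop61.exists_baseChange_equiv q M hU' hW e'
  refine bijective_of_pushout (M := Γ(M, f ⁻¹ᵁ U)) (fun _ _ => rfl) E1 E2
    (((bcNat w).app M).app V).hom ?_ ?_
  · intro b s
    exact ((bcNat w).app M).app_smul b s
  · intro m
    refine (congrArg _ ((LinearEquiv.symm_apply_eq E1).2 (hE1 m).symm)).trans ?_
    refine Eq.trans ?_ ((LinearEquiv.symm_apply_eq E2).2 (hE2 m).symm).symm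
    show ((bcNat w).app M).app V (res _ e (Amp73.pullS p G U m)) = _
    rw [Mero90.app_res]
    refine (congrArg _ (bcNat_app_pullS w M U m)).trans ?_
    show res ((Scheme.Modules.pullback q).obj M) (g.preimage_mono e)
        (res ((Scheme.Modules.pullback q).obj M) (preimage_eq w U).le (Amp73.pullS q M (f ⁻¹ᵁ U) m)) =
      res ((Scheme.Modules.pullback q).obj M) e' (Amp73.pullS q M (f ⁻¹ᵁ U) m)
    rw [res_res]

include H in
/-- Affine base change. -/
theorem isIso_bcNat_app (M : X'.Modules) [M.IsQuasicoherent] : IsIso ((bcNat w).app M) := by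
  refine isIso_of_basis _ fun y W hy => ?_
  obtain ⟨U, hU, hyU, -⟩ := exists_isAffineOpen_mem_and_subset (X := X) (x := p y) (U := ⊤) trivial
  obtain ⟨V, hV, hyV, hVW⟩ := exists_isAffineOpen_mem_and_subset (X := P) (x := y) (U := W ⊓ p ⁻¹ᵁ U)
    ⟨hy, hyU⟩
  exact ⟨V, fun a ha => (hVW ha).1, hyV, bcNat_bijective w H M hU hV (fun a ha => (hVW ha).2)⟩

end BaseChange

section Projection

variable (g : P' ⟶ P) (K : P.Modules)

/-- The projection morphism, as a natural transformation. -/
def projNat : Coh.push g ⋙ DCoh.tensorRightMod K ⟶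
    DCoh.tensorRightMod ((Scheme.Modules.pullback g).obj K) ⋙ Coh.push g where
  app N := ValVan29.projHom g N K
  naturality N N' φ := by
    refine GRec72.hom_ext_tmul (L := (Coh.push g).obj N) (M := K) fun U a k => ?_
    show (ValVan29.projHom g N' K).app U
        (((DCoh.tensorRightMod K).map ((Coh.push g).map φ)).app U (SecTwist.tmul _ K U a k)) =
      ((DCoh.tensorRightMod ((Scheme.Modules.pullback g).obj K)).map φ).app (g ⁻¹ᵁ U)
        ((ValVan29.projHom g N K).app U (SecTwist.tmul _ K U a k))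
    rw [GRec72.tmul_map, ValVan29.projHom, ValVan29.projHom, Mero90.Pairing.lift_tmul,
      Mero90.Pairing.lift_tmul]
    exact (GRec72.tmul_map _ φ (g ⁻¹ᵁ U) a (Amp73.pullS g K U k)).symm

variable [IsAffineHom g]

/-- The projection formula on affine opens. -/
theorem projNat_bijective (N : P'.Modules) [N.IsQuasicoherent] [K.IsQuasicoherent] {V : P.Opens}
    (hV : IsAffineOpen V) : Function.Bijective (((projNat g K).app N).app V) := by
  let G := (Coh.push g).obj N
  let L := (Scheme.Modules.pullback g).obj K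
  haveI hG : G.IsQuasicoherent := QCqs72.isQuasicoherent_pushforward (M := N) g
  haveI hL : L.IsQuasicoherent := QCPull72.isQuasicoherent_pullback g K
  have hW := hV.preimage g
  have e : g ⁻¹ᵁ V ≤ g ⁻¹ᵁ V := le_rfl
  let _ : Algebra Γ(P, V) Γ(P', g ⁻¹ᵁ V) := (g.appLE V (g ⁻¹ᵁ V) e).hom.toAlgebra
  obtain ⟨E1, hE1⟩ := Mum71.exists_tensor_equiv G K hV
  obtain ⟨E2, hE2⟩ := Mum71.exists_tensor_equiv N L hW
  obtain ⟨E3, hE3⟩ : ∃ E3 : Γ(L, g ⁻¹ᵁ V) ≃ₗ[Γ(P', g ⁻¹ᵁ V)] Γ(P', g ⁻¹ᵁ V) ⊗[Γ(P, V)] Γ(K, V),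
      ∀ k, E3 (Amp73.pullS g K V k) = 1 ⊗ₜ k := by
    have h := LimTop61.exists_baseChange_equiv g K hV hW e
    obtain ⟨E3, hE3⟩ := h
    exact ⟨E3, fun k => (congrArg E3 (res_self _).symm).trans (hE3 k)⟩
  have tow : ∀ (b : Γ(P, V)) (n : Γ(N, g ⁻¹ᵁ V)),
      algebraMap Γ(P, V) Γ(P', g ⁻¹ᵁ V) b • n = g.app V b • n := fun b n => by
    rw [RingHom.algebraMap_toAlgebra, Scheme.Hom.appLE_eq_app]
  refine bijective_of_cancel (N := Γ(N, g ⁻¹ᵁ V)) tow E1 E2 E3
    (((projNat g K).app N).app V).hom fun a k => ?_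
  refine (congrArg _ (hE1 a k)).trans (((ValVan29.projPairing g N K).lift_tmul V a k).trans ?_)
  rw [← hE3 k, LinearEquiv.symm_apply_apply]
  exact (hE2 _ _).symm

/-- The projection formula for an affine morphism. -/
theorem isIso_projNat_app (N : P'.Modules) [N.IsQuasicoherent] [K.IsQuasicoherent] :
    IsIso ((projNat g K).app N) := by
  refine isIso_of_basis _ fun y W hy => ?_
  obtain ⟨V, hV, hyV, hVW⟩ := exists_isAffineOpen_mem_and_subset (X := P) hy
  exact ⟨V, hVW, hyV, projNat_bijective g K N hV⟩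

end Projection

end Groth.Agent.FMK72
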