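import Groth.Agent.FMK72.PullTensor
import Groth.Agent.Serre69.RPushVanish
import Groth.Agent.Coh69.AffinePush
import Groth.Agent.Coh69.LocModule
import Groth.Agent.Coh69.RelVanish
import Groth.Agent.GSS45.SchemeSS
import Groth.Agent.EGA73.Tensor

/-!
Acyclicity of kernels for the projection from a triple product.
-/

set_option autoImplicit false
set_option backward.isDefEq.respectTransparency.types false

noncomputable section

universe u

open CategoryTheory Limits AlgebraicGeometry TopologicalSpace Opposite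
open Groth.Agent.Coh69

namespace Groth.Agent.FMK72

variable {X : Scheme.{u}}

theorem subsingleton_HE_congr {M N : X.Modules} (e : M ≅ N) {n : ℕ} {U : X.Opens}
    (h : Subsingleton (HE (Coh.toAb M) n U)) : Subsingleton (HE (Coh.toAb N) n U) :=
  Serre69.subsingleton_ext_of_iso ((SheafOfModules.toSheaf X.ringCatSheaf).mapIso e)

theorem subsingleton_HE_restrict_iff {Z : Scheme.{u}} (j : Z ⟶ X) [IsOpenImmersion j] (M : X.Modules)
    (n : ℕ) (W : Z.Opens) :
    Subsingleton (HE (Coh.toAb (M.restrict j)) n W) ↔ Subsingleton (HE (Coh.toAb M) n (j ''ᵁ W)) := by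
  obtain ⟨e⟩ := restr_nonempty_equiv j.isOpenEmbedding (Coh.toAb M) n W
  exact e.toEquiv.subsingleton_congr.symm

theorem subsingleton_localizedModule {R : Type u} [CommRing R] (S : Submonoid R) {M : Type u}
    [AddCommGroup M] [Module R M] (h : Subsingleton M) : Subsingleton (LocalizedModule S M) :=
  subsingleton_of_forall_eq 0 fun x => by
    induction x using LocalizedModule.induction_on with
    | h m s => rw [Subsingleton.elim m 0, LocalizedModule.zero_mk]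

/-- Vanishing of cohomology passes to basic opens of the base. -/
theorem subsingleton_HE_preimage_basicOpen {W V : Scheme.{u}} (π : W ⟶ V) [CompactSpace W]
    [QuasiSeparatedSpace W] (M : W.Modules) [M.IsQuasicoherent] (n : ℕ) {V₀ : V.Opens}
    (hW : π ⁻¹ᵁ V₀ = ⊤) (h : Subsingleton (HE (Coh.toAb M) n (⊤ : W.Opens))) (g : Γ(V, V₀)) :
    Subsingleton (HE (Coh.toAb M) n (π ⁻¹ᵁ V.basicOpen g)) := by
  let g' : Γ(W, ⊤) := W.presheaf.map (homOfLE hW.ge).op (π.app V₀ g)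
  have hg : π ⁻¹ᵁ V.basicOpen g = W.basicOpen g' := by
    rw [Scheme.preimage_basicOpen, W.basicOpen_res]
    exact (inf_eq_right.2 le_top).symm
  rw [hg]
  obtain ⟨e⟩ := nonempty_HE_basicOpen M n g'
  have h1 : Subsingleton (Coh.HH W M n) := (hhEquiv M n).toEquiv.subsingleton_congr.2 h
  have := subsingleton_localizedModule (Submonoid.powers g') h1
  exact e.toEquiv.subsingleton

/-- Higher direct images vanish as soon as cohomology over small opens does. -/
theorem isZero_Rpush_of_subsingleton {Y : Scheme.{u}} (f : X ⟶ Y) [HasInjectiveResolutions X.Modules]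
    (M : X.Modules) (n : ℕ) (h : ∀ (U : Y.Opens) (y : Y), y ∈ U → ∃ V : Y.Opens, V ≤ U ∧ y ∈ V ∧
      Subsingleton (HE (Coh.toAb M) n (f ⁻¹ᵁ V))) :
    IsZero ((Coh.Rpush f n).obj M) := by
  obtain ⟨e⟩ := GSS45.nonempty_toAb_Rpush f M n
  have h0 := (isZero_RpushAb_of_subsingleton f (Coh.toAb M) n h).of_iso e
  refine (IsZero.iff_id_eq_zero _).2 ((SheafOfModules.toSheaf Y.ringCatSheaf).map_injective ?_)
  exact h0.eq_of_src _ _

variable {Y T P Q Z B : Scheme.{u}} (p : P ⟶ X) (s : P ⟶ Y) [QuasiCompact s] [QuasiSeparated s]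
  (tQ : Q ⟶ T) (a : Q ⟶ X) (h : Z ⟶ P) (fZ : Z ⟶ Q) (H : IsPullback h fZ p a)
  (pr : Z ⟶ B) (tT : B ⟶ T) (tY : B ⟶ Y) (h1 : pr ≫ tT = fZ ≫ tQ) (h2 : pr ≫ tY = h ≫ s)
  (haff : ∀ T' : T.Opens, IsAffineOpen T' → IsAffineHom ((tQ ⁻¹ᵁ T').ι ≫ a))
  (hbox : ∀ (T' : T.Opens) (Y' : Y.Opens), IsAffineOpen T' → IsAffineOpen Y' →
    IsAffineOpen (tT ⁻¹ᵁ T' ⊓ tY ⁻¹ᵁ Y'))
  [HasInjectiveResolutions P.Modules] [HasInjectiveResolutions Z.Modules]
  (K : P.Modules) [K.IsQuasicoherent] (F : Q.Modules) [F.IsQuasicoherent] (q : ℕ)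
  (hKa : ∀ G : X.Modules, Coh.IsQCoh G → IsZero ((Coh.Rpush s (q + 1)).obj
    ((DCoh.tensorRightMod K).obj ((Scheme.Modules.pullback p).obj G))))

include H h1 h2 haff hbox hKa in
/-- Acyclicity of `pr₁₂^*F ⊗ pr₂₃^*K` for `pr₁₃`. -/
theorem isZero_Rpush_triple :
    IsZero ((Coh.Rpush pr (q + 1)).obj ((DCoh.tensorRightMod ((Scheme.Modules.pullback h).obj K)).obj
      ((Scheme.Modules.pullback fZ).obj F))) := by
  let Kh := (Scheme.Modules.pullback h).obj K
  let N := (DCoh.tensorRightMod Kh).obj ((Scheme.Modules.pullback fZ).obj F)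
  haveI hKh : Kh.IsQuasicoherent := QCPull72.isQuasicoherent_pullback h K
  haveI hFZ : ((Scheme.Modules.pullback fZ).obj F).IsQuasicoherent :=
    QCPull72.isQuasicoherent_pullback fZ F
  haveI hN : N.IsQuasicoherent := isQuasicoherent_tensorRightMod _ Kh
  refine isZero_Rpush_of_subsingleton pr N (q + 1) fun U b hb => ?_
  obtain ⟨T', hT', hbT, -⟩ := exists_isAffineOpen_mem_and_subset (X := T) (x := tT b) (U := ⊤) trivial
  obtain ⟨Y', hY', hbY, -⟩ := exists_isAffineOpen_mem_and_subset (X := Y) (x := tY b) (U := ⊤) trivial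
  let V₀ := tT ⁻¹ᵁ T' ⊓ tY ⁻¹ᵁ Y'
  obtain ⟨g, hgU, hbg⟩ := (hbox T' Y' hT' hY').exists_basicOpen_le ⟨b, hb⟩ ⟨hbT, hbY⟩
  refine ⟨B.basicOpen g, hgU, hbg, ?_⟩
  let Qo := tQ ⁻¹ᵁ T'
  let a' := Qo.ι ≫ a
  haveI : IsAffineHom a' := haff T' hT'
  let Z₁ := fZ ⁻¹ᵁ Qo
  let k : Z₁.toScheme ⟶ P := Z₁.ι ≫ h
  let r := fZ ∣_ Qo
  have H1 : IsPullback k r p a' := (isPullback_morphismRestrict fZ Qo).flip.paste_horiz H
  haveI : IsAffineHom k := isAffineHom_of_isPullback H1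
  let F₁ := (Scheme.Modules.pullback Qo.ι).obj F
  haveI hF1 : F₁.IsQuasicoherent := QCPull72.isQuasicoherent_pullback Qo.ι F
  haveI hrF : ((Scheme.Modules.pullback r).obj F₁).IsQuasicoherent :=
    QCPull72.isQuasicoherent_pullback r F₁
  haveI hkK : ((Scheme.Modules.pullback k).obj K).IsQuasicoherent :=
    QCPull72.isQuasicoherent_pullback k K
  let N₁ := (DCoh.tensorRightMod ((Scheme.Modules.pullback k).obj K)).obj
    ((Scheme.Modules.pullback r).obj F₁)
  haveI hN1 : N₁.IsQuasicoherent := isQuasicoherent_tensorRightMod _ _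
  let G := (Coh.push a').obj F₁
  haveI hG : G.IsQuasicoherent := QCqs72.isQuasicoherent_pushforward (M := F₁) a'
  let L := (DCoh.tensorRightMod K).obj ((Scheme.Modules.pullback p).obj G)
  haveI hL : L.IsQuasicoherent :=
    haveI := QCPull72.isQuasicoherent_pullback p G
    isQuasicoherent_tensorRightMod _ K
  haveI := isIso_bcNat_app H1.w H1 F₁
  haveI := isIso_projNat_app k K ((Scheme.Modules.pullback r).obj F₁)
  let eL : L ≅ (Coh.push k).obj N₁ :=
    (DCoh.tensorRightMod K).mapIso (asIso ((bcNat H1.w).app F₁)) ≪≫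
      asIso ((projNat k K).app ((Scheme.Modules.pullback r).obj F₁))
  let W₁ := k ⁻¹ᵁ (s ⁻¹ᵁ Y')
  have hsub1 : Subsingleton (HE (Coh.toAb N₁) (q + 1) W₁) := by
    obtain ⟨eR⟩ := GSS45.nonempty_toAb_Rpush s L (q + 1)
    have hz : IsZero ((Coh.RpushAb s (q + 1)).obj (Coh.toAb L)) :=
      (Functor.map_isZero (SheafOfModules.toSheaf Y.ringCatSheaf) (hKa G hG)).of_iso eR.symm
    have h0 := subsingleton_HE_congr eL (Serre69.subsingleton_HE_preimage s L q hz hY')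
    obtain ⟨e⟩ := leray k.base {V | IsAffineOpen (X := P) V} P.isBasis_affineOpens (Coh.toAb N₁)
      (fun V (hV : IsAffineOpen (X := P) V) m =>
        qcoh_subsingleton_HE N₁ (V := k ⁻¹ᵁ V) (hV.preimage k) m) (q + 1) (s ⁻¹ᵁ Y')
    exact e.toEquiv.subsingleton_congr.2 h0
  haveI := isIso_pullTensHom Z₁.ι ((Scheme.Modules.pullback fZ).obj F) Kh
  let eN : N₁ ≅ N.restrict Z₁.ι :=
    (EGA73.tensIso
      ((Scheme.Modules.pullbackComp r Qo.ι).app F ≪≫
        (Scheme.Modules.pullbackCongr (morphismRestrict_ι fZ Qo)).app F ≪≫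
        ((Scheme.Modules.pullbackComp Z₁.ι fZ).app F).symm)
      ((Scheme.Modules.pullbackComp Z₁.ι h).app K).symm) ≪≫
      (asIso (Amp73.pullTensHom Z₁.ι ((Scheme.Modules.pullback fZ).obj F) Kh)).symm ≪≫
      ((Scheme.Modules.restrictFunctorIsoPullback Z₁.ι).app N).symm
  let j := W₁.ι ≫ Z₁.ι
  let π := j ≫ pr
  have hWpre : ∀ z : Z₁.toScheme, z ∈ W₁ ↔ Z₁.ι z ∈ pr ⁻¹ᵁ V₀ := by
    intro z
    have e1 : tT (pr (Z₁.ι z)) = tQ (fZ (Z₁.ι z)) := congr($h1 (Z₁.ι z))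
    have e2 : tY (pr (Z₁.ι z)) = s (k z) := congr($h2 (Z₁.ι z))
    show s (k z) ∈ Y' ↔ tT (pr (Z₁.ι z)) ∈ T' ∧ tY (pr (Z₁.ι z)) ∈ Y'
    rw [e1, e2]
    exact ⟨fun hz => ⟨z.2, hz⟩, And.right⟩
  have hπ : π ⁻¹ᵁ V₀ = ⊤ := top_le_iff.1 fun w _ => (hWpre (W₁.ι w)).1 w.2
  have hcW : IsCompact (W₁ : Set Z₁.toScheme) :=
    QuasiCompact.isCompact_preimage (f := k) _ (s ⁻¹ᵁ Y').2
      (QuasiCompact.isCompact_preimage (f := s) _ Y'.2 hY'.isCompact)
  haveI : CompactSpace W₁.toScheme := isCompact_iff_compactSpace.mp hcW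
  haveI : QuasiSeparatedSpace W₁.toScheme :=
    haveI : IsAffine Y'.toScheme := hY'
    haveI : QuasiSeparated ((k ≫ s) ∣_ Y') :=
      IsZariskiLocalAtTarget.restrict (P := @QuasiSeparated)
        (MorphismProperty.comp_mem _ k s inferInstance inferInstance) Y'
    (quasiSeparatedSpace_of_quasiSeparated (X := ((k ≫ s) ⁻¹ᵁ Y').toScheme) ((k ≫ s) ∣_ Y') :)
  haveI hj : (N.restrict j).IsQuasicoherent :=
    QC70.isQuasicoherent_of_iso ((Scheme.Modules.restrictFunctorIsoPullback j).app N).symm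
      (QCPull72.isQuasicoherent_pullback j N)
  have htop : Subsingleton (HE (Coh.toAb (N.restrict j)) (q + 1) (⊤ : W₁.toScheme.Opens)) := by
    rw [subsingleton_HE_restrict_iff, Scheme.Hom.comp_image, W₁.ι_image_top,
      ← subsingleton_HE_restrict_iff]
    exact subsingleton_HE_congr eN hsub1
  have hD := subsingleton_HE_preimage_basicOpen π (N.restrict j) (q + 1) hπ htop g
  rw [subsingleton_HE_restrict_iff] at hD
  have hsub : pr ⁻¹ᵁ B.basicOpen g ≤ j.opensRange := by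
    intro z hz
    have hz0 : pr z ∈ V₀ := B.basicOpen_le g hz
    have e1 : tT (pr z) = tQ (fZ z) := congr($h1 z)
    have hz1 : z ∈ Z₁ := show tQ (fZ z) ∈ T' from e1 ▸ hz0.1
    exact ⟨⟨⟨z, hz1⟩, (hWpre ⟨z, hz1⟩).2 hz0⟩, rfl⟩
  have heq : j ''ᵁ (π ⁻¹ᵁ B.basicOpen g) = pr ⁻¹ᵁ B.basicOpen g := by
    rw [show π ⁻¹ᵁ B.basicOpen g = j ⁻¹ᵁ (pr ⁻¹ᵁ B.basicOpen g) from rfl,
      Scheme.Hom.image_preimage_eq_opensRange_inf, inf_eq_right.2 hsub]
  rwa [heq] at hD

end Groth.Agent.FMK72
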