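import Mathlib.AlgebraicGeometry.Morphisms.Separated
import Mathlib.AlgebraicGeometry.Morphisms.ClosedImmersion
import Mathlib.RingTheory.IsTensorProduct
import Mathlib.Algebra.Category.Ring.Constructions

/-!
Sections on the intersection of two affine opens of a separated scheme.
-/

set_option autoImplicit false
set_option backward.isDefEq.respectTransparency.types false

universe u

open CategoryTheory Limits AlgebraicGeometry TopologicalSpace Opposite

namespace Groth.Agent.FMK72

/-- An additive predicate true on products holds everywhere on a pushout of rings. -/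
theorem pushout_induction {R A B C : CommRingCat.{u}} {f : R ⟶ A} {g : R ⟶ B} {i : A ⟶ C} {j : B ⟶ C}
    (h : IsPushout f g i j) (N : AddSubmonoid C) (hN : ∀ a b, i a * j b ∈ N) (c : C) : c ∈ N := by
  algebraize [f.hom, g.hom, i.hom, j.hom]
  let _ : Algebra R C := (f ≫ i).hom.toAlgebra
  have : IsScalarTower R A C := IsScalarTower.of_algebraMap_eq' rfl
  have : IsScalarTower R B C := IsScalarTower.of_algebraMap_eq' (congrArg CommRingCat.Hom.hom h.w)
  have hp : Algebra.IsPushout R A B C := CommRingCat.isPushout_iff_isPushout.1 h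
  have : ∀ a : A, i a * c ∈ N := by
    induction c using hp.out.inductionOn with
    | zero => intro a; rw [mul_zero]; exact N.zero_mem
    | tmul b => intro a; exact hN a b
    | smul s n hn =>
      intro a
      rw [Algebra.smul_def, RingHom.algebraMap_toAlgebra, ← mul_assoc, ← map_mul]
      exact hn _
    | add x y hx hy => intro a; rw [mul_add]; exact N.add_mem (hx a) (hy a)
  simpa using this 1

variable {X S : Scheme.{u}} [IsAffine S] (xS : X ⟶ S) [IsSeparated xS]

include xS in
/-- Over an affine base, products of sections span the sections on the intersection of two affine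
opens of a separated scheme. -/
theorem mem_of_mul_mem {X₁ X₀ : X.Opens} (h₁ : IsAffineOpen X₁) (h₀ : IsAffineOpen X₀)
    (N : AddSubmonoid Γ(X, X₁ ⊓ X₀))
    (hN : ∀ (b : Γ(X, X₁)) (a : Γ(X, X₀)), X.presheaf.map (homOfLE inf_le_left).op b *
      X.presheaf.map (homOfLE inf_le_right).op a ∈ N) (t : Γ(X, X₁ ⊓ X₀)) : t ∈ N := by
  have : IsAffine X₁.toScheme := h₁
  have : IsAffine X₀.toScheme := h₀
  have hI : IsPullback (X.homOfLE (inf_le_left : X₁ ⊓ X₀ ≤ X₁)) (X.homOfLE inf_le_right) X₁.ι X₀.ι :=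
    isPullback_opens_inf X₁ X₀
  let m : (X₁ ⊓ X₀).toScheme ⟶ pullback (X₁.ι ≫ xS) (X₀.ι ≫ xS) :=
    hI.isoPullback.hom ≫ pullback.mapDesc X₁.ι X₀.ι xS
  have hmc : IsClosedImmersion m := inferInstance
  have hsurj : Function.Surjective m.appTop :=
    m.app_surjective ⊤ (isAffineOpen_top _)
  have hm₁ : m ≫ pullback.fst _ _ = X.homOfLE inf_le_left := by
    show (hI.isoPullback.hom ≫ pullback.map _ _ _ _ _ _ _ _ _) ≫ pullback.fst _ _ = _
    rw [Category.assoc, pullback.lift_fst, Category.comp_id, IsPullback.isoPullback_hom_fst]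
  have hm₂ : m ≫ pullback.snd _ _ = X.homOfLE inf_le_right := by
    show (hI.isoPullback.hom ≫ pullback.map _ _ _ _ _ _ _ _ _) ≫ pullback.snd _ _ = _
    rw [Category.assoc, pullback.lift_snd, Category.comp_id, IsPullback.isoPullback_hom_snd]
  let φ : Γ((X₁ ⊓ X₀).toScheme, ⊤) →+ Γ(X, X₁ ⊓ X₀) := (X₁ ⊓ X₀).topIso.hom.hom.toAddMonoidHom
  obtain ⟨z, rfl⟩ := (ConcreteCategory.bijective_of_isIso (X₁ ⊓ X₀).topIso.hom).2 t
  obtain ⟨z, rfl⟩ := hsurj z
  refine pushout_induction (isPushout_appTop_of_isPullback (IsPullback.of_hasPullback (X₁.ι ≫ xS) (X₀.ι ≫ xS)))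
    ((N.comap φ).comap m.appTop.hom.toAddMonoidHom) (fun a b => ?_) z
  show (X₁ ⊓ X₀).topIso.hom (m.appTop (_ * _)) ∈ N
  rw [map_mul, map_mul]
  have key : ∀ {W : X.Opens} (e : X₁ ⊓ X₀ ≤ W)
      (p : pullback (X₁.ι ≫ xS) (X₀.ι ≫ xS) ⟶ W.toScheme), m ≫ p = X.homOfLE e → ∀ a,
      (X₁ ⊓ X₀).topIso.hom (m.appTop (p.appTop a)) = X.presheaf.map (homOfLE e).op (W.topIso.hom a) := by
    intro W e p hp a
    rw [← ConcreteCategory.comp_apply p.appTop, ← Scheme.Hom.comp_appTop, hp, Scheme.homOfLE_appTop]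
    simp only [Scheme.Opens.topIso_hom, ← ConcreteCategory.comp_apply]
    congr 2
    exact ((X.presheaf.map_comp _ _).symm.trans (congrArg X.presheaf.map (Subsingleton.elim _ _))).trans
      (X.presheaf.map_comp _ _)
  rw [key inf_le_left _ hm₁, key inf_le_right _ hm₂]
  exact hN _ _

end Groth.Agent.FMK72
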