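import Groth.Agent.FMK72.Exact
import Groth.Agent.FMK72.SepSpan
import Groth.Agent.Amp73.CounitEpi
import Groth.Agent.Amp73.Tensor
import Groth.Agent.Var76.Frames
import Groth.Agent.QC70.Closure
import Groth.Agent.QC70.Colim
import Groth.Agent.EGA73.Tensor

/-!
Generation of a kernel by its direct image on the target.
-/

set_option autoImplicit false
set_option backward.isDefEq.respectTransparency.types false
set_option linter.style.haveILetI false

noncomputable section

universe u

open CategoryTheory Limits AlgebraicGeometry TopologicalSpace Opposite TensorProduct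
open Groth.Agent.Var76.LineBundle Groth.Agent.Var76.ZeroScheme

namespace Groth.Agent.FMK72

variable {X Y P : Scheme.{u}}

theorem bijective_tmul_self {A B M : Type u} [CommRing A] [CommRing B] [Algebra A B] [AddCommGroup M]
    [Module A M] (g : M) (hg : Function.Bijective fun a : A => a • g) :
    Function.Bijective fun c : B => c ⊗ₜ[A] g := by
  let e : A ≃ₗ[A] M := LinearEquiv.ofBijective (LinearMap.toSpanSingleton A M g) hg
  let E : B ≃ₗ[A] B ⊗[A] M := (TensorProduct.rid A B).symm ≪≫ₗ TensorProduct.congr (.refl A B) e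
  have h : (fun c : B => c ⊗ₜ[A] g) = E := funext fun c => by simp [E, e]
  rw [h]
  exact E.bijective

theorem bijective_tmul_left {B N K : Type u} [CommRing B] [AddCommGroup N] [Module B N] [AddCommGroup K]
    [Module B K] (e : N) (he : Function.Bijective fun c : B => c • e) :
    Function.Bijective fun k : K => e ⊗ₜ[B] k := by
  let L : B ≃ₗ[B] N := LinearEquiv.ofBijective (LinearMap.toSpanSingleton B N e) he
  let E : K ≃ₗ[B] N ⊗[B] K := (TensorProduct.lid B K).symm ≪≫ₗ TensorProduct.congr L (.refl B K)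
  have h : (fun k : K => e ⊗ₜ[B] k) = E := funext fun k => by simp [E, L]
  rw [h]
  exact E.bijective

/-- Sections of `p^*M ⊗ K` over an affine open where `M` is free on one section. -/
theorem bijective_tm_pullS (p : P ⟶ X) (M : X.Modules) [M.IsQuasicoherent] (K : P.Modules)
    [K.IsQuasicoherent] {X₀ : X.Opens} (h₀ : IsAffineOpen X₀) (g₀ : Γ(M, X₀))
    (hg : Function.Bijective fun a : Γ(X, X₀) => a • g₀) {U : P.Opens} (hU : IsAffineOpen U)
    (e : U ≤ p ⁻¹ᵁ X₀) :
    Function.Bijective fun k : Γ(K, U) => Amp73.tm _ K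
      (res ((Scheme.Modules.pullback p).obj M) e (Amp73.pullS p M X₀ g₀)) k := by
  let _ : Algebra Γ(X, X₀) Γ(P, U) := (p.appLE X₀ U e).hom.toAlgebra
  haveI hpM : ((Scheme.Modules.pullback p).obj M).IsQuasicoherent := QCPull72.isQuasicoherent_pullback p M
  let e₁ : Γ((Scheme.Modules.pullback p).obj M, U) := res _ e (Amp73.pullS p M X₀ g₀)
  obtain ⟨E1, hE1⟩ := LimTop61.exists_baseChange_equiv p M h₀ hU e
  obtain ⟨E2, hE2⟩ := Mum71.exists_tensor_equiv ((Scheme.Modules.pullback p).obj M) K hU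
  have he₁ : E1 e₁ = 1 ⊗ₜ g₀ := hE1 g₀
  have hfree : Function.Bijective fun c : Γ(P, U) => c • e₁ := by
    have h : (fun c : Γ(P, U) => c • e₁) = E1.symm ∘ fun c : Γ(P, U) => c ⊗ₜ[Γ(X, X₀)] g₀ := by
      funext c
      refine E1.eq_symm_apply.2 ?_
      rw [map_smul, he₁, TensorProduct.smul_tmul', smul_eq_mul, mul_one]
    rw [h]
    exact E1.symm.bijective.comp (bijective_tmul_self g₀ hg)
  have h : (fun k : Γ(K, U) => Amp73.tm _ K e₁ k) = E2 ∘ fun k => e₁ ⊗ₜ k :=
    funext fun k => (hE2 e₁ k).symm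
  show Function.Bijective fun k : Γ(K, U) => Amp73.tm _ K e₁ k
  rw [h]
  exact E2.bijective.comp (bijective_tmul_left e₁ hfree)

theorem shfU_counit {C : Type u} [SmallCategory C] {J : GrothendieckTopology C}
    {O : Sheaf J CommRingCat.{u}} (M : ModSite.Mod O) {R : Mod48.PreM O} (f : R ⟶ Mod48.pre M) :
    Mod48.shfU R ≫ Mod48.fgt.map (Mod48.shf.map f ≫ Mod48.shfAdj.counit.app M) = f := by
  rw [Functor.map_comp, ← Category.assoc, ← Mod48.shfU_naturality, Category.assoc]
  exact (congrArg (_ ≫ ·) (Mod48.shfAdj.right_triangle_components M)).trans (Category.comp_id _)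

open MonoidalCategory in
theorem tensUnitLeft_tm (M : X.Modules) {U : X.Opens} (c : Γ(X, U)) (m : Γ(M, U)) :
    (EGA73.tensUnitLeft M).hom.app U (Amp73.tm (Coh.structureModule X) M c m) = c • m := by
  have h : Mod48.shfU (O := X.sheaf) (CohB1.tensorPre (Coh.structureModule X) M) ≫
      (Mod48.fgt (O := X.sheaf)).map (EGA73.tensUnitLeft M).hom =
      (λ_ (Mod48.pre (O := X.sheaf) M)).hom :=
    shfU_counit (O := X.sheaf) M (λ_ (Mod48.pre (O := X.sheaf) M)).hom
  exact ConcreteCategory.congr_hom (congrArg (fun φ => φ.app (op U)) h) (Mero90.tq c m)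

/-- The identification `p^*O ⊗ K = K`. -/
def unitTensIso (p : P ⟶ X) (K : P.Modules) :
    (DCoh.tensorRightMod K).obj ((Scheme.Modules.pullback p).obj (Coh.structureModule X)) ≅ K :=
  (DCoh.tensorRightMod K).mapIso (PicLoc.pullbackStructureIso p) ≪≫ EGA73.tensUnitLeft K

theorem unitTensIso_tm (p : P ⟶ X) (K : P.Modules) {X₀ : X.Opens} {U : P.Opens}
    (e : U ≤ p ⁻¹ᵁ X₀) (k : Γ(K, U)) :
    (unitTensIso p K).hom.app U (Amp73.tm _ K
      (res ((Scheme.Modules.pullback p).obj (Coh.structureModule X)) e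
        (Amp73.pullS p (Coh.structureModule X) X₀ (1 : Γ(X, X₀)))) k) = k := by
  refine (congrArg ((EGA73.tensUnitLeft K).hom.app U)
    (GRec72.tmul_map K (PicLoc.pullbackStructureIso p).hom U _ k)).trans ?_
  refine (tensUnitLeft_tm K _ k).trans ?_
  refine (congrArg (fun c : Γ(P, U) => c • k)
    (((Mero90.app_res (PicLoc.pullbackStructureIso p).hom e _).trans
      (congrArg (res (Coh.structureModule P) e) (Amp73.pullbackStructureIso_pullS p X₀))))).trans ?_
  exact (congrArg (fun c : Γ(P, U) => c • k) (map_one (P.presheaf.map (homOfLE e).op).hom)).trans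
    (one_smul _ _)

theorem presheaf_map_map {U U' V W : X.Opens} (i : V ⟶ U) (j : W ⟶ V) (k : U' ⟶ U) (l : W ⟶ U')
    (a : Γ(X, U)) :
    X.presheaf.map j.op (X.presheaf.map i.op a) = X.presheaf.map l.op (X.presheaf.map k.op a) := by
  rw [← ConcreteCategory.comp_apply, ← ConcreteCategory.comp_apply, ← Functor.map_comp,
    ← Functor.map_comp, ← op_comp, ← op_comp, Subsingleton.elim (j ≫ i) (l ≫ k)]

variable {S : Scheme.{u}} [IsAffine S] (xS : X ⟶ S) [IsSeparated xS] (p : P ⟶ X) (s : P ⟶ Y)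
  [QuasiCompact s] [QuasiSeparated s] (K : P.Modules) [K.IsQuasicoherent]

include xS in
/-- If `M ↦ s_*(p^*M ⊗ K)` preserves epimorphisms of quasi-coherent modules, then `s^*s_*K ⟶ K`
is an epimorphism. -/
theorem epi_counit_of_preservesEpi
    (haff : ∀ X₀ : X.Opens, IsAffineOpen X₀ → IsAffineHom ((p ⁻¹ᵁ X₀).ι ≫ s))
    (hepi : ∀ {A B : QCohCat.QCoh X} (φ : A ⟶ B) [Epi φ], Epi (((QCohCat.isQCoh X).ι ⋙
      Scheme.Modules.pullback p ⋙ DCoh.tensorRightMod K ⋙ Coh.push s).map φ)) :
    Epi ((Scheme.Modules.pullbackPushforwardAdjunction s).counit.app K) := by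
  refine Amp73.epi_counit_of_span s (show Coh.IsQCoh K from inferInstance) fun z => ?_
  obtain ⟨X₀, h₀, hzX, -⟩ := exists_isAffineOpen_mem_and_subset (X := X) (x := p z) (U := ⊤) trivial
  obtain ⟨V, hV, hzV, -⟩ := exists_isAffineOpen_mem_and_subset (X := Y) (x := s z) (U := ⊤) trivial
  let O₀ := p ⁻¹ᵁ X₀
  let k := O₀.ι
  let U := O₀ ⊓ s ⁻¹ᵁ V
  have hU : IsAffineOpen U := by
    haveI := haff X₀ h₀
    have h3 := (hV.preimage (O₀.ι ≫ s)).image_of_isOpenImmersion O₀.ι
    rwa [Scheme.Hom.comp_preimage, Scheme.Hom.image_preimage_eq_opensRange_inf,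
      Scheme.Opens.opensRange_ι] at h3
  refine ⟨V, U, inf_le_right, ⟨hzX, hzV⟩, hU, eq_top_iff.2 fun t _ => ?_⟩
  -- the module `j_*O`
  let j := X₀.ι
  haveI : IsAffineHom j := by
    haveI : IsAffine X₀.toScheme := h₀
    haveI : IsAffineHom (j ≫ xS) := inferInstance
    exact MorphismProperty.of_postcomp (W' := @IsSeparated) @IsAffineHom j xS inferInstance inferInstance
  let jO : X.Modules := (Coh.push j).obj (Coh.structureModule X₀.toScheme)
  haveI hjO : jO.IsQuasicoherent :=
    QCqs72.isQuasicoherent_pushforward (M := Coh.structureModule X₀.toScheme) j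
  let κ := Γ(X₀.toScheme, ⊤)
  let φ : κ → (Coh.structureModule X ⟶ jO) := fun a => Var76.Frames.ofSection jO a
  let sO : QCohCat.QCoh X := ⟨∐ fun _ : κ => Coh.structureModule X,
    QC70.isQuasicoherent_coproduct _ fun _ => inferInstance⟩
  let jO' : QCohCat.QCoh X := ⟨jO, hjO⟩
  let d : sO ⟶ jO' := ⟨Sigma.desc φ⟩
  -- `d` is an epimorphism
  haveI : Epi (Sigma.desc φ) := by
    refine QC70.epi_of_locally_surjective _ fun W c x hx => ?_
    obtain ⟨X₁, h₁, hx₁, hW₁⟩ := exists_isAffineOpen_mem_and_subset (X := X) hx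
    suffices h : ∀ c' : Γ(jO, X₁), ∃ q, (Sigma.desc φ).app X₁ q = c' by
      obtain ⟨q, hq⟩ := h (res jO hW₁ c)
      exact ⟨X₁, hW₁, q, hx₁, hq⟩
    intro c'
    have e : j ''ᵁ (j ⁻¹ᵁ X₁) = X₁ ⊓ X₀ := by
      rw [Scheme.Hom.image_preimage_eq_opensRange_inf, Scheme.Opens.opensRange_ι, inf_comm]
    let ρ : Γ(X, X₁ ⊓ X₀) →+ Γ(jO, X₁) := (X.presheaf.map (eqToHom e).op).hom.toAddMonoidHom
    have hρ : Function.Surjective ρ :=
      (ConcreteCategory.bijective_of_isIso (X.presheaf.map (eqToHom e).op)).2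
    obtain ⟨c', rfl⟩ := hρ c'
    refine mem_of_mul_mem xS h₁ h₀
      ((AddMonoidHom.mrange ((Sigma.desc φ).app X₁).hom).comap ρ) (fun b a => ?_) c'
    let a' : κ := X₀.topIso.inv a
    refine ⟨(Sigma.ι (fun _ : κ => Coh.structureModule X) a').app X₁
      (show Γ(Coh.structureModule X, X₁) from b), ?_⟩
    refine (congr((Scheme.Modules.Hom.app $(Sigma.ι_desc φ a') X₁) b)).trans ?_
    have h1 : (φ a').app X₁ (1 : Γ(X, X₁)) = res jO le_top a' := Var76.Frames.val_ofSection jO a' X₁
    refine (congrArg ((φ a').app X₁) (mul_one b).symm).trans ?_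
    refine ((φ a').app_smul b (1 : Γ(X, X₁))).trans ((congrArg (b • ·) h1).trans ?_)
    show (j.app X₁ b * X₀.toScheme.presheaf.map (homOfLE le_top).op a' : Γ(X₀.toScheme, j ⁻¹ᵁ X₁)) =
      X.presheaf.map (eqToHom e).op (_ * _)
    rw [map_mul]
    congr 1
    · rw [Scheme.Opens.ι_app, ← ConcreteCategory.comp_apply, ← Functor.map_comp]
      rfl
    · exact presheaf_map_map _ _ _ _ a
  haveI : Epi d := (QCohCat.isQCoh X).ι.epi_of_epi_map (inferInstanceAs (Epi (Sigma.desc φ)))
  let Φ : X.Modules ⥤ Y.Modules := Scheme.Modules.pullback p ⋙ DCoh.tensorRightMod K ⋙ Coh.push s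
  haveI hΦ : PreservesColimitsOfShape (Discrete κ) Φ := by
    haveI := (Scheme.Modules.pullbackPushforwardAdjunction p).leftAdjoint_preservesColimits
    haveI := Univ70.preservesColimits_tensorRightMod K
    haveI : PreservesColimitsOfShape (Discrete κ) (Coh.push s) := preservesCoproducts_pushforward s κ
    exact inferInstanceAs (PreservesColimitsOfShape (Discrete κ)
      (Scheme.Modules.pullback p ⋙ DCoh.tensorRightMod K ⋙ Coh.push s))
  haveI hq : ∀ A : X.Modules, [A.IsQuasicoherent] → (Φ.obj A).IsQuasicoherent := fun A _ => by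
    haveI := QCPull72.isQuasicoherent_pullback p A
    haveI := isQuasicoherent_tensorRightMod ((Scheme.Modules.pullback p).obj A) K
    exact QCqs72.isQuasicoherent_pushforward
      (M := (DCoh.tensorRightMod K).obj ((Scheme.Modules.pullback p).obj A)) s
  let T : X.Modules → P.Modules := fun A => (DCoh.tensorRightMod K).obj ((Scheme.Modules.pullback p).obj A)
  -- the test section extends
  let g₁ : Γ(jO, X₀) := (1 : Γ(X₀.toScheme, j ⁻¹ᵁ X₀))
  let e₁ : Γ((Scheme.Modules.pullback p).obj jO, U) := res _ inf_le_left (Amp73.pullS p jO X₀ g₁)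
  have hext : ∃ n : Γ(T jO, s ⁻¹ᵁ V), res (T jO) inf_le_right n = Amp73.tm _ K e₁ t := by
    have H : IsPullback k (p ∣_ X₀) p j := (isPullback_morphismRestrict p X₀).flip
    haveI : IsAffineHom k := isAffineHom_of_isPullback H
    haveI := isIso_bcNat_app H.w H (Coh.structureModule X₀.toScheme)
    haveI hr : ((Scheme.Modules.pullback (p ∣_ X₀)).obj (Coh.structureModule X₀.toScheme)).IsQuasicoherent :=
      QCPull72.isQuasicoherent_pullback _ _
    haveI := isIso_projNat_app k K ((Scheme.Modules.pullback (p ∣_ X₀)).obj (Coh.structureModule X₀.toScheme))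
    let N' := (DCoh.tensorRightMod ((Scheme.Modules.pullback k).obj K)).obj
      ((Scheme.Modules.pullback (p ∣_ X₀)).obj (Coh.structureModule X₀.toScheme))
    let θ : T jO ≅ (Coh.push k).obj N' :=
      (DCoh.tensorRightMod K).mapIso (asIso ((bcNat H.w).app (Coh.structureModule X₀.toScheme))) ≪≫
        asIso ((projNat k K).app ((Scheme.Modules.pullback (p ∣_ X₀)).obj (Coh.structureModule X₀.toScheme)))
    have hk : k ⁻¹ᵁ (s ⁻¹ᵁ V) ≤ k ⁻¹ᵁ U := fun w hw => ⟨w.2, hw⟩
    let c : Γ((Coh.push k).obj N', U) := θ.hom.app U (Amp73.tm _ K e₁ t)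
    refine ⟨θ.inv.app (s ⁻¹ᵁ V) (show Γ((Coh.push k).obj N', s ⁻¹ᵁ V) from res N' hk c), ?_⟩
    rw [← Mero90.app_res]
    refine (congrArg (θ.inv.app U) (?_ : _ = c)).trans ?_
    · show res N' (k.preimage_mono inf_le_right) (res N' hk c) = c
      rw [res_res]; exact QC70.res_self c
    · exact congr((Scheme.Modules.Hom.app $(θ.hom_inv_id) U) (Amp73.tm _ K e₁ t))
  obtain ⟨n, hn⟩ := hext
  -- `n` comes from finitely many sections of `K`
  let D : Φ.obj (∐ fun _ : κ => Coh.structureModule X) ⟶ Φ.obj jO := Φ.map (Sigma.desc φ)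
  haveI : Epi D := hepi d
  have hDs : Function.Surjective (D.app V) := by
    haveI : (∐ fun _ : κ => Coh.structureModule X).IsQuasicoherent := sO.property
    haveI := hq (∐ fun _ : κ => Coh.structureModule X)
    haveI := hq jO
    let Sc := ShortComplex.mk (kernel.ι D) D (kernel.condition D)
    have hS : Sc.ShortExact := { exact := ShortComplex.exact_kernel D }
    haveI : Sc.X₁.IsQuasicoherent := QC70.isQuasicoherent_kernel D
    exact QC70.app_surjective_of_isAffineOpen Sc hS hV
  obtain ⟨m, hm⟩ := hDs (show Γ(Φ.obj jO, V) from n)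
  haveI : IsIso (sigmaComparison Φ fun _ : κ => Coh.structureModule X) := inferInstance
  obtain ⟨σ, rfl⟩ := ((ConcreteCategory.isIso_iff_bijective
    ((sigmaComparison Φ fun _ : κ => Coh.structureModule X).app V)).1
      (Scheme.Modules.Hom.isIso_iff_isIso_app.1 inferInstance V)).2 m
  obtain ⟨F, hF⟩ := exists_finset_section (fun _ : κ => Φ.obj (Coh.structureModule X)) hV.isCompact σ
  rw [hF, sum_app, map_sum, map_sum] at hm
  have hterm : ∀ a : κ, ∀ g : Γ(Φ.obj (Coh.structureModule X), V),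
      D.app V ((sigmaComparison Φ fun _ : κ => Coh.structureModule X).app V
        ((Sigma.ι (fun _ : κ => Φ.obj (Coh.structureModule X)) a).app V g)) =
      (Φ.map (φ a)).app V g := fun a g => by
    have h : Sigma.ι (fun _ : κ => Φ.obj (Coh.structureModule X)) a ≫
        (sigmaComparison Φ fun _ : κ => Coh.structureModule X) ≫ D = Φ.map (φ a) := by
      rw [ι_comp_sigmaComparison_assoc, ← Φ.map_comp, Sigma.ι_desc]
    exact congr((Scheme.Modules.Hom.app $h V) g)
  -- compare over `U`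
  let e₀ : Γ((Scheme.Modules.pullback p).obj (Coh.structureModule X), U) :=
    res _ inf_le_left (Amp73.pullS p (Coh.structureModule X) X₀ (1 : Γ(X, X₀)))
  have hbij₀ := bijective_tm_pullS p (Coh.structureModule X) K h₀ (1 : Γ(X, X₀))
    ((funext fun a : Γ(X, X₀) => (mul_one a).symm) ▸ Function.bijective_id) hU inf_le_left
  haveI : IsIso (j.app X₀) := j.isIso_app X₀ (by rw [Scheme.Opens.opensRange_ι])
  have hbij₁ := bijective_tm_pullS p jO K h₀ g₁ (by
    have h : (fun a : Γ(X, X₀) => a • g₁) = j.app X₀ := funext fun a => mul_one (j.app X₀ a)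
    rw [h]
    exact ConcreteCategory.bijective_of_isIso _) hU inf_le_left
  have hT : ∀ (a : κ) (q : Γ(K, U)), ∃ c : Γ(P, U),
      ((DCoh.tensorRightMod K).map ((Scheme.Modules.pullback p).map (φ a))).app U (Amp73.tm _ K e₀ q) =
        c • Amp73.tm _ K e₁ q := by
    intro a q
    obtain ⟨a', ha'⟩ := (ConcreteCategory.bijective_of_isIso (j.app X₀)).2 (res jO le_top a)
    refine ⟨P.presheaf.map (homOfLE (inf_le_left : U ≤ O₀)).op (p.app X₀ a'), ?_⟩
    refine (GRec72.tmul_map K _ U e₀ q).trans ?_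
    refine Eq.trans ?_ (Amp73.tm_smul_left _ e₁ q)
    refine congrArg (fun r => Amp73.tm _ K r q) ?_
    refine (Mero90.app_res _ _ _).trans ((congrArg (res _ _) (Amp73.map_app_pullS p _ _ _)).trans ?_)
    have h1 : (φ a).app X₀ (1 : Γ(X, X₀)) = a' • g₁ :=
      (Var76.Frames.val_ofSection jO a X₀).trans (ha'.symm.trans (mul_one (j.app X₀ a')).symm)
    rw [h1, Amp73.pullS_smul, res_smul]
  let eK := unitTensIso p K
  let gs : κ → Γ(K, s ⁻¹ᵁ V) := fun a =>
    eK.hom.app (s ⁻¹ᵁ V) ((QC70.coprojection (fun _ : κ => Φ.obj (Coh.structureModule X)) a).app V σ)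
  choose cs hcs using fun a => hT a (res K inf_le_right (gs a))
  have hsum : t = ∑ a ∈ F, cs a • res K inf_le_right (gs a) := by
    refine hbij₁.1 ?_
    show Amp73.tm _ K e₁ t = Amp73.tm _ K e₁ _
    have hl : ∀ (q : Γ(K, U)), Amp73.tm ((Scheme.Modules.pullback p).obj jO) K e₁ q =
        (AddMonoidHom.mk' (fun q : Γ(K, U) => Amp73.tm ((Scheme.Modules.pullback p).obj jO) K e₁ q)
          fun q q' => Amp73.tm_add_right e₁ q q') q := fun _ => rfl
    rw [← hn, hl, map_sum]
    simp only [← hl, Amp73.tm_smul_right, ← hcs]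
    refine (congrArg (res (T jO) inf_le_right) hm.symm).trans ?_
    refine (map_sum ((T jO).presheaf.map (homOfLE (inf_le_right : U ≤ s ⁻¹ᵁ V)).op).hom _ _).trans
      (Finset.sum_congr rfl fun a _ => ?_)
    obtain ⟨q, hq'⟩ := hbij₀.2 (res (T (Coh.structureModule X)) inf_le_right
      ((QC70.coprojection (fun _ : κ => Φ.obj (Coh.structureModule X)) a).app V σ))
    have hgq : res K inf_le_right (gs a) = q := by
      refine (Mero90.app_res eK.hom _ _).symm.trans ((congrArg (eK.hom.app U) hq'.symm).trans ?_)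
      exact unitTensIso_tm p K inf_le_left q
    rw [hgq]
    refine (congrArg (res (T jO) inf_le_right) (hterm a _)).trans ?_
    refine (Mero90.app_res ((DCoh.tensorRightMod K).map ((Scheme.Modules.pullback p).map (φ a))) _ _).symm.trans ?_
    exact congrArg _ hq'.symm
  rw [hsum]
  exact Submodule.sum_mem _ fun a _ => Submodule.smul_mem _ _ (Submodule.subset_span ⟨gs a, rfl⟩)

end Groth.Agent.FMK72
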