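import Groth.Agent.FMK72.BaseChange

/-!
Inverse images commute with tensor products of quasi-coherent modules.
-/

set_option autoImplicit false
set_option backward.isDefEq.respectTransparency.types false
set_option maxSynthPendingDepth 6

noncomputable section

universe u

open CategoryTheory Limits AlgebraicGeometry TopologicalSpace Opposite
open Groth.Agent.QC70
open scoped TensorProduct

namespace Groth.Agent.FMK72

variable {X Y : Scheme.{u}}

/-- Bijectivity of the comparison of base change and tensor product. -/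
theorem bijective_of_distrib {B C : Type u} [CommRing B] [CommRing C] [Algebra B C]
    {A K W S LA LK T : Type u} [AddCommGroup A] [Module B A] [AddCommGroup K] [Module B K]
    [AddCommGroup W] [Module B W] [AddCommGroup S] [Module C S] [AddCommGroup LA] [Module C LA]
    [AddCommGroup LK] [Module C LK] [AddCommGroup T] [Module C T]
    (E0 : A ⊗[B] K ≃ₗ[B] W) (E1 : S ≃ₗ[C] C ⊗[B] W) (E2 : LA ⊗[C] LK ≃ₗ[C] T)
    (EA : LA ≃ₗ[C] C ⊗[B] A) (EK : LK ≃ₗ[C] C ⊗[B] K) (φ : S →+ T)
    (hsmul : ∀ (c : C) s, φ (c • s) = c • φ s)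
    (h : ∀ a k, φ (E1.symm (1 ⊗ₜ E0 (a ⊗ₜ k))) =
      E2 (EA.symm (1 ⊗ₜ a) ⊗ₜ EK.symm (1 ⊗ₜ k))) : Function.Bijective φ := by
  let D := TensorProduct.AlgebraTensorModule.distribBaseChange B C A K
  let Q := TensorProduct.congr EA.symm EK.symm
  let L := TensorProduct.AlgebraTensorModule.congr (LinearEquiv.refl C C) E0
  have hL : ∀ (c : C) (x : A ⊗[B] K), L (c ⊗ₜ x) = c • ((1 : C) ⊗ₜ[B] E0 x) := fun c x => by
    rw [TensorProduct.smul_tmul', smul_eq_mul, mul_one]; rfl
  have key : ∀ z, φ (E1.symm (L z)) = E2 (Q (D z)) := by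
    intro z
    induction z using TensorProduct.induction_on with
    | zero => simp
    | tmul c x =>
      induction x using TensorProduct.induction_on with
      | zero => simp
      | tmul a k =>
        rw [hL, map_smul, hsmul, h, TensorProduct.AlgebraTensorModule.distribBaseChange_tmul,
          show c ⊗ₜ[B] a = c • ((1 : C) ⊗ₜ[B] a) by rw [TensorProduct.smul_tmul', smul_eq_mul, mul_one],
          ← TensorProduct.smul_tmul', map_smul, map_smul, TensorProduct.congr_tmul]
      | add a b ha hb => simp only [TensorProduct.tmul_add, map_add, ha, hb]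
    | add a b ha hb => simp only [map_add, ha, hb]
  have : ⇑φ = fun s => E2 (Q (D (L.symm (E1 s)))) := funext fun s => by
    rw [← key, LinearEquiv.apply_symm_apply, LinearEquiv.symm_apply_apply]
  rw [this]
  exact ((E2.bijective.comp Q.bijective).comp (D.bijective.comp L.symm.bijective)).comp E1.bijective

/-- Assembles a comparison of composite functors from comparisons of their pieces. -/
@[simps]
def assembleNat {C₁ C₂ C₃ C₄ C₅ : Type*} [Category C₁] [Category C₂] [Category C₃] [Category C₄]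
    [Category C₅] {P : C₁ ⥤ C₂} {T : C₂ ⥤ C₂} {S : C₂ ⥤ C₃} {G : C₃ ⥤ C₄} {H : C₂ ⥤ C₅}
    {S' : C₅ ⥤ C₄} {T' : C₅ ⥤ C₅} {P' : C₁ ⥤ C₅} (a : S ⋙ G ⟶ H ⋙ S') (b : T ⋙ H ⟶ H ⋙ T')
    (c : P ⋙ H ⟶ P') : (P ⋙ T ⋙ S) ⋙ G ⟶ P' ⋙ T' ⋙ S' where
  app M := a.app (T.obj (P.obj M)) ≫ S'.map (b.app (P.obj M) ≫ T'.map (c.app M))
  naturality M N φ := by
    have h1 := a.naturality (T.map (P.map φ))
    have h2 := b.naturality (P.map φ)
    have h3 := c.naturality φ
    simp only [Functor.comp_map, Functor.comp_obj] at h1 h2 h3 ⊢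
    rw [← Category.assoc, h1, Category.assoc, Category.assoc, ← Functor.map_comp, ← Functor.map_comp,
      ← Category.assoc (H.map _), h2, Category.assoc, Category.assoc, ← Functor.map_comp,
      ← Functor.map_comp, h3]

variable (f : X ⟶ Y) (M N : Y.Modules) [M.IsQuasicoherent] [N.IsQuasicoherent]

/-- The comparison on affine opens. -/
theorem pullTensHom_bijective {U : Y.Opens} (hU : IsAffineOpen U) {V : X.Opens} (hV : IsAffineOpen V)
    (e : V ≤ f ⁻¹ᵁ U) : Function.Bijective ((Amp73.pullTensHom f M N).app V) := by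
  have := QCTens72.isQuasicoherent_tensorMod M N
  have := QCPull72.isQuasicoherent_pullback f M
  have := QCPull72.isQuasicoherent_pullback f N
  let _ : Algebra Γ(Y, U) Γ(X, V) := (f.appLE U V e).hom.toAlgebra
  obtain ⟨E0, hE0⟩ := Mum71.exists_tensor_equiv M N hU
  obtain ⟨E1, hE1⟩ := LimTop61.exists_baseChange_equiv f (CohB1.tensorMod M N) hU hV e
  obtain ⟨E2, hE2⟩ := Mum71.exists_tensor_equiv ((Scheme.Modules.pullback f).obj M)
    ((Scheme.Modules.pullback f).obj N) hV
  obtain ⟨EA, hA⟩ := LimTop61.exists_baseChange_equiv f M hU hV e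
  obtain ⟨EK, hK⟩ := LimTop61.exists_baseChange_equiv f N hU hV e
  refine bijective_of_distrib E0 E1 E2 EA EK ((Amp73.pullTensHom f M N).app V).hom ?_ ?_
  · intro c s
    exact (Amp73.pullTensHom f M N).app_smul c s
  · intro m n
    refine (congrArg _ ((LinearEquiv.symm_apply_eq E1).2 (hE1 _).symm)).trans ?_
    rw [(LinearEquiv.symm_apply_eq EA).2 (hA m).symm, (LinearEquiv.symm_apply_eq EK).2 (hK n).symm,
      hE2, hE0]
    show (Amp73.pullTensHom f M N).app V (res _ e (Amp73.pullS f _ U (SecTwist.tmul M N U m n))) = _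
    rw [Mero90.app_res]
    refine (congrArg _ (Amp73.pullTensHom_tm f M N U m n)).trans ?_
    exact Amp73.res_tm e _ _

/-- Inverse images commute with tensor products of quasi-coherent modules. -/
theorem isIso_pullTensHom : IsIso (Amp73.pullTensHom f M N) := by
  refine isIso_of_basis _ fun y W hy => ?_
  obtain ⟨U, hU, hyU, -⟩ := exists_isAffineOpen_mem_and_subset (X := Y) (x := f y) (U := ⊤) trivial
  obtain ⟨V, hV, hyV, hVW⟩ := exists_isAffineOpen_mem_and_subset (X := X) (x := y) (U := W ⊓ f ⁻¹ᵁ U)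
    ⟨hy, hyU⟩
  exact ⟨V, fun a ha => (hVW ha).1, hyV, pullTensHom_bijective f M N hU hV fun a ha => (hVW ha).2⟩

omit [M.IsQuasicoherent] [N.IsQuasicoherent] in
/-- The comparison, as a natural transformation in the first variable. -/
def pullTensNat : DCoh.tensorRightMod N ⋙ Scheme.Modules.pullback f ⟶
    Scheme.Modules.pullback f ⋙ DCoh.tensorRightMod ((Scheme.Modules.pullback f).obj N) where
  app M := Amp73.pullTensHom f M N
  naturality M M' φ := by
    refine ((Scheme.Modules.pullbackPushforwardAdjunction f).homEquiv _ _).injective ?_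
    refine GRec72.hom_ext_tmul (L := M) (M := N) fun U a k => ?_
    rw [Adjunction.homEquiv_unit, Adjunction.homEquiv_unit]
    show (Amp73.pullTensHom f M' N).app (f ⁻¹ᵁ U)
        (((Scheme.Modules.pullback f).map ((DCoh.tensorRightMod N).map φ)).app (f ⁻¹ᵁ U)
          (Amp73.pullS f (CohB1.tensorMod M N) U (SecTwist.tmul M N U a k))) =
      ((DCoh.tensorRightMod ((Scheme.Modules.pullback f).obj N)).map
        ((Scheme.Modules.pullback f).map φ)).app (f ⁻¹ᵁ U)
        ((Amp73.pullTensHom f M N).app (f ⁻¹ᵁ U)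
          (Amp73.pullS f (CohB1.tensorMod M N) U (SecTwist.tmul M N U a k)))
    refine (congrArg _ (Amp73.map_app_pullS f _ U _)).trans ?_
    refine Eq.trans ?_ (congrArg _ (Amp73.pullTensHom_tm f M N U a k)).symm
    refine (congrArg (fun t => (Amp73.pullTensHom f M' N).app (f ⁻¹ᵁ U) (Amp73.pullS f _ U t))
      (GRec72.tmul_map N φ U a k)).trans ?_
    refine (Amp73.pullTensHom_tm f M' N U _ k).trans ?_
    refine Eq.trans ?_ (GRec72.tmul_map _ _ _ _ _).symm
    show SecTwist.tmul _ _ _ _ _ = SecTwist.tmul _ _ _ _ _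
    rw [Amp73.map_app_pullS]

end Groth.Agent.FMK72
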