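import Groth.Agent.FMK72.Coproduct
import Groth.Agent.FMK72.PullTensor
import Groth.Agent.FlatMor68.FlatSections
import Groth.Agent.QC70.ExtSheafVanish
import Groth.Agent.QCGroth72.Category
import Groth.Prelude.Def_FlatMod2
import Groth.Prelude.Def_Coh

/-!
Exactness of `M ↦ q_*(p^*M ⊗ K)` for a kernel `K` flat over the source.
-/

set_option autoImplicit false
set_option backward.isDefEq.respectTransparency.types false
set_option maxSynthPendingDepth 6

noncomputable section

universe u

open CategoryTheory Limits AlgebraicGeometry TopologicalSpace Opposite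
open Groth.Agent.QC70
open scoped TensorProduct

attribute [local instance] CategoryTheory.Limits.hasBinaryBiproducts_of_finite_biproducts

namespace Groth.Agent.FMK72

variable {X Y P : Scheme.{u}}

/-- Tensoring a base change with a module flat over the base preserves injectivity. -/
theorem injective_of_flat {B C : Type u} [CommRing B] [CommRing C] [Algebra B C]
    {A A' K LA LB : Type u} [AddCommGroup A] [Module B A] [AddCommGroup A'] [Module B A']
    [AddCommGroup K] {iK : Module B K} [Module C K] (tow : ∀ (b : B) (k : K), algebraMap B C b • k = b • k)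
    (hK : Module.Flat B K) [AddCommGroup LA] [Module C LA] [AddCommGroup LB] [Module C LB]
    (EA : LA ≃ₗ[C] C ⊗[B] A) (EB : LB ≃ₗ[C] C ⊗[B] A') (φ : A →ₗ[B] A') (hφ : Function.Injective φ)
    (ψ : LA →ₗ[C] LB) (h : ∀ a, ψ (EA.symm (1 ⊗ₜ a)) = EB.symm (1 ⊗ₜ φ a)) :
    Function.Injective (ψ.rTensor K) := by
  have : IsScalarTower B C K := IsScalarTower.of_algebraMap_smul tow
  let cA : LA ⊗[C] K ≃ₗ[C] K ⊗[B] A := TensorProduct.congr EA (LinearEquiv.refl C K) ≪≫ₗ
    TensorProduct.comm C _ K ≪≫ₗ TensorProduct.AlgebraTensorModule.cancelBaseChange B C C K A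
  let cB : LB ⊗[C] K ≃ₗ[C] K ⊗[B] A' := TensorProduct.congr EB (LinearEquiv.refl C K) ≪≫ₗ
    TensorProduct.comm C _ K ≪≫ₗ TensorProduct.AlgebraTensorModule.cancelBaseChange B C C K A'
  have key : ∀ z, φ.lTensor K (cA z) = cB (ψ.rTensor K z) := by
    intro z
    induction z using TensorProduct.induction_on with
    | zero => simp
    | tmul l k =>
      obtain ⟨x, rfl⟩ := EA.symm.surjective l
      induction x using TensorProduct.induction_on with
      | zero => simp
      | tmul c a =>
        rw [show c ⊗ₜ[B] a = c • ((1 : C) ⊗ₜ[B] a) by rw [TensorProduct.smul_tmul', smul_eq_mul, mul_one],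
          map_smul, LinearMap.rTensor_tmul, map_smul, h, ← map_smul EB.symm, ← map_smul EA.symm]
        simp only [cA, cB, LinearEquiv.trans_apply, TensorProduct.congr_tmul, LinearEquiv.refl_apply,
          LinearEquiv.apply_symm_apply, TensorProduct.comm_tmul, TensorProduct.smul_tmul',
          smul_eq_mul, mul_one, TensorProduct.AlgebraTensorModule.cancelBaseChange_tmul,
          LinearMap.lTensor_tmul]
      | add x y hx hy => rw [map_add, TensorProduct.add_tmul]; simp only [map_add, hx, hy]
    | add a b ha hb => simp only [map_add, ha, hb]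
  intro a b hab
  have h' := congrArg cB hab
  rw [← key, ← key] at h'
  exact cA.injective (Module.Flat.lTensor_preserves_injective_linearMap φ hφ h')

/-- The pullback tensored with a module flat over the base preserves monomorphisms of quasi-coherent
modules. -/
theorem mono_map_pullback_tensor (p : P ⟶ X) (K : P.Modules) [K.IsQuasicoherent]
    (hKf : FlatMod.IsFlatOver p K) {A B : X.Modules} [A.IsQuasicoherent] [B.IsQuasicoherent]
    (φ : A ⟶ B) [Mono φ] :
    Mono ((DCoh.tensorRightMod K).map ((Scheme.Modules.pullback p).map φ)) := by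
  haveI hA := QCPull72.isQuasicoherent_pullback p A
  haveI hB := QCPull72.isQuasicoherent_pullback p B
  let g := (DCoh.tensorRightMod K).map ((Scheme.Modules.pullback p).map φ)
  have hbasis : ∀ (y : P) (W : P.Opens), y ∈ W →
      ∃ V ≤ W, y ∈ V ∧ Function.Injective (g.app V) := by
    intro y W hy
    obtain ⟨U, hU, hyU, -⟩ := exists_isAffineOpen_mem_and_subset (X := X) (x := p y) (U := ⊤) trivial
    obtain ⟨V, hV, hyV, hVW⟩ := exists_isAffineOpen_mem_and_subset (X := P) (x := y) (U := W ⊓ p ⁻¹ᵁ U)
      ⟨hy, hyU⟩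
    refine ⟨V, fun a ha => (hVW ha).1, hyV, ?_⟩
    have e : V ≤ p ⁻¹ᵁ U := fun a ha => (hVW ha).2
    let _ : Algebra Γ(X, U) Γ(P, V) := (p.appLE U V e).hom.toAlgebra
    obtain ⟨EA, hEA⟩ := LimTop61.exists_baseChange_equiv p A hU hV e
    obtain ⟨EB, hEB⟩ := LimTop61.exists_baseChange_equiv p B hU hV e
    obtain ⟨E2A, h2A⟩ := Mum71.exists_tensor_equiv ((Scheme.Modules.pullback p).obj A) K hV
    obtain ⟨E2B, h2B⟩ := Mum71.exists_tensor_equiv ((Scheme.Modules.pullback p).obj B) K hV
    have hflat := FlatMor68.FlatSections.flat_sections p e hV hU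
      (isLocAt_of_isQuasicoherent K hV) fun x _ => hKf x
    let ψ : Γ((Scheme.Modules.pullback p).obj A, V) →ₗ[Γ(P, V)]
        Γ((Scheme.Modules.pullback p).obj B, V) :=
      { toFun := ((Scheme.Modules.pullback p).map φ).app V
        map_add' := fun a b => map_add _ a b
        map_smul' := fun c a => Scheme.Modules.Hom.app_smul _ c a }
    let φ' : Γ(A, U) →ₗ[Γ(X, U)] Γ(B, U) :=
      { toFun := φ.app U
        map_add' := fun a b => map_add _ a b
        map_smul' := fun c a => φ.app_smul c a }
    have hψ : ∀ a, ψ (EA.symm (1 ⊗ₜ a)) = EB.symm (1 ⊗ₜ φ' a) := by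
      intro a
      rw [(LinearEquiv.symm_apply_eq EA).2 (hEA a).symm, (LinearEquiv.symm_apply_eq EB).2 (hEB (φ' a)).symm]
      show ((Scheme.Modules.pullback p).map φ).app V (res _ e (Amp73.pullS p A U a)) = _
      rw [Mero90.app_res, Amp73.map_app_pullS]
      rfl
    have hinj := injective_of_flat (K := Γ(K, V)) (fun _ _ => rfl) hflat EA EB φ'
      (app_injective_of_mono φ U) ψ hψ
    have key : ∀ w, g.app V (E2A w) = E2B (ψ.rTensor Γ(K, V) w) := by
      intro w
      induction w using TensorProduct.induction_on with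
      | zero =>
        refine ((congrArg (g.app V) (map_zero E2A)).trans (map_zero (g.app V).hom)).trans ?_
        exact ((congrArg E2B (map_zero (ψ.rTensor _))).trans (map_zero E2B)).symm
      | tmul l k =>
        rw [h2A, LinearMap.rTensor_tmul, h2B]
        exact GRec72.tmul_map K _ V l k
      | add a b ha hb =>
        refine ((congrArg (g.app V) (map_add E2A a b)).trans (map_add (g.app V).hom _ _)).trans ?_
        rw [map_add, map_add]
        exact congrArg₂ (· + ·) ha hb
    intro s t hst
    obtain ⟨w, rfl⟩ := E2A.surjective s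
    obtain ⟨w', rfl⟩ := E2A.surjective t
    rw [key, key] at hst
    rw [hinj (E2B.injective hst)]
  refine mono_of_app_injective _ fun W s t hst => ?_
  refine section_ext _ s t fun y hy => ?_
  obtain ⟨V, hVW, hyV, hinj⟩ := hbasis y W hy
  exact ⟨V, hVW, hyV, hinj (by rw [app_res, app_res]; exact congrArg _ hst)⟩

/-- `F_K` is exact when the kernel is flat over the source and acyclic for the projection. -/
theorem exact_fourierMukai (p : P ⟶ X) (q : P ⟶ Y) [QuasiCompact q]
    [HasInjectiveResolutions P.Modules] (K : P.Modules) (hK : K.IsQuasicoherent)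
    (hKf : FlatMod.IsFlatOver p K)
    (hKa : ∀ (M : X.Modules), Coh.IsQCoh M → IsZero ((Coh.Rpush q 1).obj
      ((DCoh.tensorRightMod K).obj ((Scheme.Modules.pullback p).obj M)))) :
    PreservesFiniteLimits ((QCohCat.isQCoh X).ι ⋙ Scheme.Modules.pullback p ⋙
        DCoh.tensorRightMod K ⋙ Coh.push q) ∧
      PreservesFiniteColimits ((QCohCat.isQCoh X).ι ⋙ Scheme.Modules.pullback p ⋙
        DCoh.tensorRightMod K ⋙ Coh.push q) ∧
      ∀ J : Type u, PreservesColimitsOfShape (Discrete J) ((QCohCat.isQCoh X).ι ⋙
        Scheme.Modules.pullback p ⋙ DCoh.tensorRightMod K ⋙ Coh.push q) := by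
  let Φ := (QCohCat.isQCoh X).ι ⋙ Scheme.Modules.pullback p ⋙ DCoh.tensorRightMod K
  haveI := (Scheme.Modules.pullbackPushforwardAdjunction p).leftAdjoint_preservesColimits
  haveI := Univ70.preservesColimits_tensorRightMod K
  haveI hc : PreservesColimitsOfSize.{u, u} Φ :=
    inferInstanceAs (PreservesColimitsOfSize.{u, u} ((QCohCat.isQCoh X).ι ⋙
      Scheme.Modules.pullback p ⋙ DCoh.tensorRightMod K))
  haveI : PreservesFiniteColimits Φ := PreservesColimitsOfSize.preservesFiniteColimits _
  haveI : (Scheme.Modules.pullback p).Additive :=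
    (Scheme.Modules.pullbackPushforwardAdjunction p).left_adjoint_additive
  haveI : Φ.Additive := inferInstanceAs ((QCohCat.isQCoh X).ι ⋙ Scheme.Modules.pullback p ⋙
    DCoh.tensorRightMod K).Additive
  have hmono : ∀ {A B : QCohCat.QCoh X} (φ : A ⟶ B) [Mono φ], Mono (Φ.map φ) := by
    intro A B φ _
    haveI : A.obj.IsQuasicoherent := A.property
    haveI : B.obj.IsQuasicoherent := B.property
    haveI : Mono φ.hom := inferInstanceAs (Mono ((QCohCat.isQCoh X).ι.map φ))
    haveI := hK
    exact mono_map_pullback_tensor p K hKf φ.hom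
  haveI : Φ.PreservesMonomorphisms := ⟨fun φ _ => hmono φ⟩
  haveI : Φ.PreservesHomology := Functor.preservesHomology_of_preservesMonos_and_cokernels Φ
  haveI : PreservesFiniteLimits Φ := Φ.preservesFiniteLimits_of_preservesHomology
  haveI hL : PreservesFiniteLimits (Φ ⋙ Coh.push q) :=
    haveI : PreservesLimitsOfSize.{u, u} (Coh.push q) :=
        (Scheme.Modules.pullbackPushforwardAdjunction q).rightAdjoint_preservesLimits
    haveI : PreservesFiniteLimits (Coh.push q) := PreservesLimitsOfSize.preservesFiniteLimits _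
    comp_preservesFiniteLimits _ _
  haveI : (Φ ⋙ Coh.push q).Additive := inferInstance
  haveI : (Φ ⋙ Coh.push q).PreservesEpimorphisms := ⟨fun {A B} φ _ => by
    let S := ShortComplex.mk (kernel.ι φ) φ (kernel.condition φ)
    have hS : S.ShortExact := { exact := ShortComplex.exact_kernel φ }
    have hS' : (S.map Φ).ShortExact := hS.map_of_exact Φ
    haveI : PreservesFiniteLimits (Coh.push q) :=
      haveI : PreservesLimitsOfSize.{u, u} (Coh.push q) :=
        (Scheme.Modules.pullbackPushforwardAdjunction q).rightAdjoint_preservesLimits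
      PreservesLimitsOfSize.preservesFiniteLimits _
    exact epi_map_of_isZero_rightDerived_one (Coh.push q) hS'
      (hKa (kernel φ).obj (kernel φ).property)⟩
  haveI : (Φ ⋙ Coh.push q).PreservesHomology :=
    Functor.preservesHomology_of_preservesEpis_and_kernels _
  refine ⟨hL, (Φ ⋙ Coh.push q).preservesFiniteColimits_of_preservesHomology, fun J => ?_⟩
  haveI : PreservesColimitsOfShape (Discrete J) Φ := hc.preservesColimitsOfShape
  haveI : PreservesColimitsOfShape (Discrete J) (Coh.push q) := preservesCoproducts_pushforward q J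
  exact comp_preservesColimitsOfShape Φ (Coh.push q)

end Groth.Agent.FMK72
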