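import Groth.Agent.QCAffine72.Sections
import Groth.Agent.QCPull72.Sections
import Groth.Agent.QCTens72.Basic
import Groth.Agent.Univ70.Sect
import Groth.Prelude.Def_DDual2

/-!
Pullback, tensor product and affine direct image on quasi-coherent modules.
-/

set_option autoImplicit false
set_option backward.isDefEq.respectTransparency.types false

noncomputable section

universe u

open CategoryTheory Limits AlgebraicGeometry TopologicalSpace Opposite
open Groth.Agent.QC70

namespace Groth.Agent.FMK72

variable {X Y : Scheme.{u}}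

/-- Inverse image of quasi-coherent modules. -/
def pullQ (f : X ⟶ Y) : QCohCat.QCoh Y ⥤ QCohCat.QCoh X :=
  ObjectProperty.lift _ ((QCohCat.isQCoh Y).ι ⋙ Scheme.Modules.pullback f) fun M =>
    haveI : M.obj.IsQuasicoherent := M.property
    QCPull72.isQuasicoherent_pullback f M.obj

theorem isQuasicoherent_tensorRightMod (M K : X.Modules) [M.IsQuasicoherent] [K.IsQuasicoherent] :
    ((DCoh.tensorRightMod K).obj M).IsQuasicoherent := by
  have h := QCTens72.isQuasicoherent_tensorMod M K
  unfold DCoh.tensorRightMod DCoh.shP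
  exact h

/-- Tensor product with a quasi-coherent module. -/
def tensQ (K : X.Modules) (hK : K.IsQuasicoherent) : QCohCat.QCoh X ⥤ QCohCat.QCoh X :=
  ObjectProperty.lift _ ((QCohCat.isQCoh X).ι ⋙ DCoh.tensorRightMod K) fun M =>
    haveI : M.obj.IsQuasicoherent := M.property
    haveI := hK
    isQuasicoherent_tensorRightMod M.obj K

/-- Direct image of quasi-coherent modules. -/
def pushQ (g : X ⟶ Y) [QuasiCompact g] [QuasiSeparated g] : QCohCat.QCoh X ⥤ QCohCat.QCoh Y :=
  ObjectProperty.lift _ ((QCohCat.isQCoh X).ι ⋙ Scheme.Modules.pushforward g) fun M =>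
    haveI : M.obj.IsQuasicoherent := M.property
    QCqs72.isQuasicoherent_pushforward (M := M.obj) g

theorem preservesColimits_pullQ (f : X ⟶ Y) : PreservesColimitsOfSize.{u, u} (pullQ f) := by
  haveI := (Scheme.Modules.pullbackPushforwardAdjunction f).leftAdjoint_preservesColimits
  haveI : PreservesColimitsOfSize.{u, u} (pullQ f ⋙ (QCohCat.isQCoh X).ι) :=
    inferInstanceAs (PreservesColimitsOfSize.{u, u} ((QCohCat.isQCoh Y).ι ⋙ Scheme.Modules.pullback f))
  exact preservesColimits_of_reflects_of_preserves (pullQ f) (QCohCat.isQCoh X).ι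

theorem preservesColimits_tensQ (K : X.Modules) (hK : K.IsQuasicoherent) :
    PreservesColimitsOfSize.{u, u} (tensQ K hK) := by
  haveI := Univ70.preservesColimits_tensorRightMod K
  haveI : PreservesColimitsOfSize.{u, u} (tensQ K hK ⋙ (QCohCat.isQCoh X).ι) :=
    inferInstanceAs (PreservesColimitsOfSize.{u, u} ((QCohCat.isQCoh X).ι ⋙ DCoh.tensorRightMod K))
  exact preservesColimits_of_reflects_of_preserves (tensQ K hK) (QCohCat.isQCoh X).ι

/-- Sections over an open, as abelian groups. -/
def secQ (V : X.Opens) : QCohCat.QCoh X ⥤ AddCommGrpCat.{u} :=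
  (QCohCat.isQCoh X).ι ⋙ Univ70.secAb V

theorem preservesColimits_sect {U : X.Opens} (hU : IsAffineOpen U) :
    PreservesColimitsOfSize.{u, u} (QCAffine72.sect hU) := by
  haveI := (Scheme.Modules.restrictAdjunction hU.fromSpec).leftAdjoint_preservesColimits
  haveI : PreservesColimitsOfSize.{u, u} (QCAffine72.sect hU ⋙ tilde.functor Γ(X, U)) :=
    preservesColimits_of_natIso (QCAffine72.restrictIso hU)
  exact preservesColimits_of_reflects_of_preserves (QCAffine72.sect hU) (tilde.functor Γ(X, U))

/-- The two descriptions of sections over an affine open. -/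
def sectForgetIso {U : X.Opens} (hU : IsAffineOpen U) :
    QCAffine72.sect hU ⋙ forget₂ (ModuleCat.{u} Γ(X, U)) AddCommGrpCat.{u} ≅ secQ U :=
  NatIso.ofComponents
    (fun M => (QCPull72.specTopEquiv M.obj hU).toAddEquiv.toAddCommGrpIso)
    (fun f => by
      ext x
      exact (app_res f.hom (QCPull72.fromSpec_image_top hU).ge _).symm)

theorem preservesColimits_secQ {U : X.Opens} (hU : IsAffineOpen U) :
    PreservesColimitsOfSize.{u, u} (secQ U) := by
  haveI := preservesColimits_sect hU
  exact preservesColimits_of_natIso (sectForgetIso hU)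

/-- A morphism of quasi-coherent modules bijective on all affine sections is an isomorphism. -/
theorem isIso_of_secQ {M N : QCohCat.QCoh X} (f : M ⟶ N)
    (h : ∀ U : X.affineOpens, IsIso ((secQ U.1).map f)) : IsIso f := by
  have hb : ∀ U : X.affineOpens, Function.Bijective (f.hom.app U.1) := fun U =>
    haveI := h U
    ConcreteCategory.bijective_of_isIso ((secQ U.1).map f)
  have : IsIso ((QCohCat.isQCoh X).ι.map f) := by
    refine isIso_of_bijective_stalkMapM _ fun x => ?_
    refine ⟨(injective_iff_map_eq_zero (stalkLinear f.hom x)).mpr fun e he => ?_, fun e => ?_⟩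
    · obtain ⟨W, hxW, s, rfl⟩ := germM_exist e
      obtain ⟨W', hW', hxW', h0⟩ := germM_eq_zero ((stalkMapM_germ f.hom hxW s).symm.trans he)
      obtain ⟨U, hU, hxU, hUW⟩ := exists_isAffineOpen_mem_and_subset hxW'
      have hle : U ≤ W := fun p hp => hW' (hUW hp)
      have hz : res M.obj hle s = 0 := (hb ⟨U, hU⟩).1 (by
        rw [map_zero, app_res, ← res_res hW' (fun p hp => hUW hp), h0, res_zero])
      rw [← germM_res hle hxU s, hz, germM_zero]
    · obtain ⟨W, hxW, s, rfl⟩ := germM_exist e
      obtain ⟨U, hU, hxU, hUW⟩ := exists_isAffineOpen_mem_and_subset hxW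
      obtain ⟨t, ht⟩ := (hb ⟨U, hU⟩).2 (res N.obj (fun p hp => hUW hp) s)
      exact ⟨germM M.obj U x hxU t, (stalkMapM_germ f.hom hxU t).trans
        ((congrArg _ ht).trans (germM_res (fun p hp => hUW hp) hxU s))⟩
  exact isIso_of_reflects_iso f (QCohCat.isQCoh X).ι

/-- Direct image along an affine morphism commutes with all colimits. -/
theorem preservesColimits_pushQ_of_isAffineHom (g : X ⟶ Y) [IsAffineHom g] :
    PreservesColimitsOfSize.{u, u} (pushQ g) := by
  refine ⟨fun {J} _ => ⟨fun {D} => ?_⟩⟩
  have : IsIso (colimit.post D (pushQ g)) := isIso_of_secQ _ fun U => by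
    haveI := preservesColimits_secQ U.2
    haveI : PreservesColimitsOfSize.{u, u} (pushQ g ⋙ secQ U.1) :=
      haveI := preservesColimits_secQ (X := X) (U.2.preimage g)
      inferInstanceAs (PreservesColimitsOfSize.{u, u} (secQ (g ⁻¹ᵁ U.1)))
    have h1 := colimit.post_post D (pushQ g) (secQ U.1)
    have : IsIso (colimit.post (D ⋙ pushQ g) (secQ U.1) ≫
        (secQ U.1).map (colimit.post D (pushQ g))) := h1 ▸ inferInstance
    exact IsIso.of_isIso_comp_left (colimit.post (D ⋙ pushQ g) (secQ U.1)) _
  exact preservesColimit_of_isIso_post _ _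

end Groth.Agent.FMK72
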