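import Groth.Agent.FMK72.BaseChange
import Groth.Agent.QC70.CoprodStalk

/-!
Sections over quasi-compact opens and quasi-compact direct images commute with direct sums.
-/

set_option autoImplicit false
set_option backward.isDefEq.respectTransparency.types false

noncomputable section

universe u

open CategoryTheory Limits AlgebraicGeometry TopologicalSpace Opposite DirectSum
open Groth.Agent.QC70

namespace Groth.Agent.FMK72

variable {X Y : Scheme.{u}}

theorem sum_app {M N : X.Modules} {ι : Type*} (s : Finset ι) (f : ι → (M ⟶ N)) (V : X.Opens)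
    (x : Γ(M, V)) : (∑ i ∈ s, f i).app V x = ∑ i ∈ s, (f i).app V x :=
  map_sum (AddMonoidHom.mk' (fun φ : M ⟶ N => φ.app V x) fun φ ψ => rfl) f s

variable {κ : Type u} (M : κ → X.Modules)

open scoped Classical in
/-- A section of a coproduct over a quasi-compact open has finite support. -/
theorem exists_finset_section {V : X.Opens} (hV : IsCompact (V : Set X)) (σ : Γ((∐ M), V)) :
    ∃ S : Finset κ, σ = (∑ j ∈ S, coprojection M j ≫ Sigma.ι M j).app V σ := by
  have hloc : ∀ x : (V : Set X), ∃ (S : Finset κ) (W : X.Opens) (hW : W ≤ V), x.1 ∈ W ∧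
      res (∐ M) hW (σ - (∑ j ∈ S, coprojection M j ≫ Sigma.ι M j).app V σ) = 0 := by
    intro x
    obtain ⟨S, hS⟩ := exists_finset_stalk M x.1 (germM (∐ M) V x.1 x.2 σ)
    rw [stalkMapM_germ] at hS
    obtain ⟨W, hW, hxW, h0⟩ := germM_eq_zero (hx := x.2)
      (s := σ - (∑ j ∈ S, coprojection M j ≫ Sigma.ι M j).app V σ) (by
        refine (map_sub ((∐ M).presheaf.germ V x.1 x.2).hom _ _).trans ?_
        exact sub_eq_zero.2 hS)
    exact ⟨S, W, hW, hxW, h0⟩
  choose S W hW hxW h0 using hloc
  obtain ⟨t, ht⟩ := hV.elim_finite_subcover (fun x => (W x : Set X)) (fun x => (W x).2)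
    fun x hx => Set.mem_iUnion.mpr ⟨⟨x, hx⟩, hxW ⟨x, hx⟩⟩
  refine ⟨t.biUnion S, section_ext' (∐ M) (fun x : t => W x.1) (fun x => hW x.1) ?_ _ _ fun x => ?_⟩
  · intro p hp
    obtain ⟨x, hx, hpx⟩ := Set.mem_iUnion₂.mp (ht hp)
    exact Opens.mem_iSup.mpr ⟨⟨x, hx⟩, hpx⟩
  · have h1 : res (∐ M) (hW x.1) σ = (∑ j ∈ S x.1, coprojection M j ≫ Sigma.ι M j).app (W x.1)
        (res (∐ M) (hW x.1) σ) := by
      rw [app_res]
      exact sub_eq_zero.1 ((map_sub ((∐ M).presheaf.map (homOfLE (hW x.1)).op).hom _ _).symm.trans (h0 x.1))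
    rw [← app_res, sum_app]
    conv_lhs => rw [h1, sum_app]
    refine Finset.sum_subset (fun j hj => Finset.mem_biUnion.2 ⟨x.1, x.2, hj⟩) fun j _ hj => ?_
    have h2 : ∀ i ∈ S x.1, (coprojection M j).app (W x.1)
        ((coprojection M i ≫ Sigma.ι M i).app (W x.1) (res (∐ M) (hW x.1) σ)) = 0 := fun i hi => by
      have h3 : (coprojection M i ≫ Sigma.ι M i) ≫ coprojection M j = 0 := by
        rw [Category.assoc, ι_coprojection_ne M (fun h : i = j => hj (h ▸ hi)), comp_zero]
      exact congr((Scheme.Modules.Hom.app $h3 (W x.1)) (res (∐ M) (hW x.1) σ))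
    show (Sigma.ι M j).app (W x.1) ((coprojection M j).app (W x.1) (res (∐ M) (hW x.1) σ)) = 0
    rw [h1, sum_app, map_sum, Finset.sum_eq_zero h2, map_zero]

/-- Sections over a quasi-compact open commute with direct sums. -/
theorem preservesColimit_secAb {V : X.Opens} (hV : IsCompact (V : Set X)) :
    PreservesColimit (Discrete.functor M) (Univ70.secAb V) := by
  classical
  let G := Univ70.secAb (X := X) V
  refine preservesColimit_of_preserves_colimit_cocone (coproductIsCoproduct M)
    ((isColimitMapCoconeCofanMkEquiv G M _).symm ?_)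
  let φ : (⨁ j, (G.obj (M j) : Type u)) →+ G.obj (∐ M) :=
    DirectSum.toAddMonoid fun j => (G.map (Sigma.ι M j)).hom
  have hφ : ∀ j y, φ (DirectSum.of (fun j => (G.obj (M j) : Type u)) j y) = G.map (Sigma.ι M j) y :=
    fun j y => DirectSum.toAddMonoid_of (fun j => (G.map (Sigma.ι M j)).hom) j y
  have hproj : ∀ v j, G.map (coprojection M j) (φ v) = v j := by
    intro v j
    induction v using DirectSum.induction_on with
    | zero => simp
    | of i y =>
      rw [hφ, ← ConcreteCategory.comp_apply, ← G.map_comp]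
      by_cases h : i = j
      · subst h
        rw [ι_coprojection_self, G.map_id, DirectSum.of_eq_same]
        rfl
      · rw [ι_coprojection_ne M h, DirectSum.of_eq_of_ne _ _ _ (Ne.symm h)]
        rfl
    | add a b ha hb => rw [map_add, map_add, ha, hb]; rfl
  have hbij : Function.Bijective φ := by
    refine ⟨fun a b h => DFinsupp.ext fun j => by rw [← hproj a j, ← hproj b j, h], fun σ => ?_⟩
    obtain ⟨S, hS⟩ := exists_finset_section M hV σ
    refine ⟨∑ j ∈ S, DirectSum.of (fun j => (G.obj (M j) : Type u)) j (G.map (coprojection M j) σ), ?_⟩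
    rw [map_sum]
    simp only [hφ]
    refine Eq.trans ?_ hS.symm
    exact (sum_app S (fun j => coprojection M j ≫ Sigma.ι M j) V σ).symm
  let e := AddEquiv.ofBijective φ hbij
  have he : ∀ j y, e.symm (G.map (Sigma.ι M j) y) = DirectSum.of (fun j => (G.obj (M j) : Type u)) j y :=
    fun j y => e.symm_apply_eq.2 (hφ j y).symm
  refine Cofan.IsColimit.mk _
    (fun s => AddCommGrpCat.ofHom
      ((DirectSum.toAddMonoid fun j => (s.inj j).hom).comp e.symm.toAddMonoidHom))
    (fun s j => AddCommGrpCat.hom_ext (AddMonoidHom.ext fun y => ?_))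
    (fun s m hm => AddCommGrpCat.hom_ext (AddMonoidHom.ext fun x => ?_))
  · change DirectSum.toAddMonoid (fun j => (s.inj j).hom) (e.symm (G.map (Sigma.ι M j) y)) = _
    rw [he, DirectSum.toAddMonoid_of]
  · obtain ⟨w, rfl⟩ := e.surjective x
    change m.hom (e w) = DirectSum.toAddMonoid (fun j => (s.inj j).hom) (e.symm (e w))
    rw [e.symm_apply_apply]
    induction w using DirectSum.induction_on with
    | zero => simp
    | of j y =>
      rw [DirectSum.toAddMonoid_of]
      refine (congrArg m.hom (hφ j y)).trans ?_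
      exact congrArg (fun f => f.hom y) (hm j)
    | add a b ha hb => rw [map_add, map_add, ha, hb, map_add]

theorem preservesColimitsOfShape_secAb {V : X.Opens} (hV : IsCompact (V : Set X)) (J : Type u) :
    PreservesColimitsOfShape (Discrete J) (Univ70.secAb (X := X) V) :=
  have := fun M : J → X.Modules => preservesColimit_secAb M hV
  preservesColimitsOfShape_of_discrete _

/-- A quasi-compact direct image commutes with direct sums. -/
theorem preservesCoproducts_pushforward (g : X ⟶ Y) [QuasiCompact g] (J : Type u) :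
    PreservesColimitsOfShape (Discrete J) (Scheme.Modules.pushforward g) := by
  refine ⟨fun {D} => ?_⟩
  have : IsIso (colimit.post D (Scheme.Modules.pushforward g)) := by
    refine isIso_of_basis _ fun y W hy => ?_
    obtain ⟨U, hU, hyU, hUW⟩ := exists_isAffineOpen_mem_and_subset (X := Y) hy
    refine ⟨U, hUW, hyU, ?_⟩
    haveI := preservesColimitsOfShape_secAb hU.isCompact J
    haveI : PreservesColimitsOfShape (Discrete J)
        (Scheme.Modules.pushforward g ⋙ Univ70.secAb U) :=
      haveI := preservesColimitsOfShape_secAb (X := X) (V := g ⁻¹ᵁ U)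
        (QuasiCompact.isCompact_preimage (f := g) _ U.2 hU.isCompact : IsCompact ((g ⁻¹ᵁ U : X.Opens) : Set X)) J
      inferInstanceAs (PreservesColimitsOfShape (Discrete J) (Univ70.secAb (g ⁻¹ᵁ U)))
    have h1 := colimit.post_post D (Scheme.Modules.pushforward g) (Univ70.secAb U)
    have : IsIso (colimit.post (D ⋙ Scheme.Modules.pushforward g) (Univ70.secAb U) ≫
        (Univ70.secAb U).map (colimit.post D (Scheme.Modules.pushforward g))) := h1 ▸ inferInstance
    have h2 := IsIso.of_isIso_comp_left (colimit.post (D ⋙ Scheme.Modules.pushforward g) (Univ70.secAb U))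
      ((Univ70.secAb U).map (colimit.post D (Scheme.Modules.pushforward g)))
    exact ConcreteCategory.bijective_of_isIso
      ((Univ70.secAb U).map (colimit.post D (Scheme.Modules.pushforward g)))
  exact preservesColimit_of_isIso_post _ _

end Groth.Agent.FMK72
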